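import Mathlib

/-!
# Anisotropic quadratic maps in characteristic two do not split orthogonally
-/

set_option autoImplicit false

namespace Cfsg.Agent.Pyr

open Finset

variable {W V : Type*} [AddCommGroup W] [AddCommGroup V]

theorem char_or (h2 : ∀ v : V, v + v = 0) (ψ : AddChar V ℂ) (v : V) : ψ v = 1 ∨ ψ v = -1 :=
  mul_self_eq_one_iff.1 (by rw [← ψ.map_add_eq_mul, h2, ψ.map_zero_eq_one])

open Classical in
/-- the integer valued version of a character of an elementary abelian `2`-group -/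
noncomputable def sg (h2 : ∀ v : V, v + v = 0) (ψ : AddChar V ℂ) : AddChar V ℤ where
  toFun v := if ψ v = 1 then 1 else -1
  map_zero_eq_one' := by simp
  map_add_eq_mul' a b := by
    have e : (-1 : ℂ) ≠ 1 := by norm_num
    rw [ψ.map_add_eq_mul]
    rcases char_or h2 ψ a with h | h <;> rcases char_or h2 ψ b with h' | h' <;> simp [h, h', e]

theorem sg_cast (h2 : ∀ v : V, v + v = 0) (ψ : AddChar V ℂ) (v : V) : (sg h2 ψ v : ℂ) = ψ v := by
  have e : (-1 : ℂ) ≠ 1 := by norm_num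
  rcases char_or h2 ψ v with h | h <;> simp [sg, h, e]

theorem dvd_sq (h2 : ∀ v : V, v + v = 0) {Q : W → V} {B : W → W →+ V}
    (hQ : ∀ x y, Q (x + y) = Q x + Q y + B x y) (F : AddSubgroup W) [Fintype F] (χ : AddChar V ℤ) :
    (Fintype.card F : ℤ) ∣ (∑ f : F, χ (Q f)) ^ 2 := by
  classical
  have e : ∀ f : F, χ (Q f) * ∑ g : F, χ (Q g) = ∑ h : F, χ (Q h) * χ (B h f) := fun f => by
    rw [mul_sum, ← Fintype.sum_equiv (Equiv.addRight f) _ _ fun _ => rfl]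
    refine sum_congr rfl fun h _ => ?_
    simp only [Equiv.coe_addRight, AddSubgroup.coe_add, hQ, ← χ.map_add_eq_mul]
    congr 1
    rw [← zero_add (Q h + B h f), ← h2 (Q f)]
    abel
  rw [sq, sum_mul, sum_congr rfl fun f _ => e f, sum_comm]
  refine dvd_sum fun h _ => ?_
  rw [← mul_sum]
  refine Dvd.dvd.mul_left ?_ _
  have := (χ.compAddMonoidHom ((B h).comp F.subtype)).sum_eq_ite
  simp only [AddChar.compAddMonoidHom_apply, AddMonoidHom.comp_apply, AddSubgroup.coe_subtype] at this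
  rw [this]
  split_ifs <;> simp

theorem sum_fib [Fintype W] [Fintype V] [DecidableEq V] {Q : W → V} (h0 : ∀ x, Q x = 0 ↔ x = 0)
    {c : ℕ} (hc : ∀ v, v ≠ 0 → #{x | Q x = v} = c) (g : V → ℤ) :
    ∑ x, g (Q x) = g 0 + c * (∑ v, g v - g 0) := by
  rw [← sum_fiberwise univ Q, ← add_sum_erase univ _ (mem_univ 0),
    ← add_sum_erase univ g (mem_univ 0), add_sub_cancel_left, mul_sum]
  congr 1
  · rw [show ({x | Q x = 0} : Finset W) = {0} from by ext; simp [h0], sum_singleton, (h0 0).2 rfl]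
  · refine sum_congr rfl fun v hv => ?_
    rw [sum_congr rfl fun x hx => congrArg g (mem_filter.1 hx).2, sum_const, hc v (ne_of_mem_erase hv),
      nsmul_eq_mul]

theorem gauss [Finite W] [Finite V] (h2 : ∀ v : V, v + v = 0) {Q : W → V} {B : W → W →+ V}
    (hQ : ∀ x y, Q (x + y) = Q x + Q y + B x y) (h0 : ∀ x, Q x = 0 ↔ x = 0) {c n : ℕ}
    (hc : ∀ v, v ≠ 0 → Nat.card {x // Q x = v} = c) (hn : n ≠ 0) (hV : Nat.card V = 2 ^ n)
    (hW : Nat.card W = Nat.card V ^ 2) {F F' : AddSubgroup W} (hB : ∀ f ∈ F, ∀ f' ∈ F', B f f' = 0)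
    (hd : F ⊓ F' = ⊥) (hF : Nat.card F * Nat.card F' = Nat.card W) : F = ⊥ ∨ F' = ⊥ := by
  classical
  have := Fintype.ofFinite W
  have := Fintype.ofFinite V
  simp only [Nat.card_eq_fintype_card] at *
  replace hc : ∀ v, v ≠ 0 → #{x | Q x = v} = c := fun v hv => by rw [← hc v hv, Fintype.card_subtype]
  set q := Fintype.card V
  have q1 : 1 < q := hV ▸ Nat.one_lt_two_pow hn
  have e1 : (c : ℤ) = q + 1 := by
    have := sum_fib h0 hc fun _ => 1
    simp only [sum_const, card_univ, hW, nsmul_eq_mul, mul_one, Nat.cast_pow] at this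
    refine mul_right_cancel₀ (b := (q : ℤ) - 1) (by omega) ?_
    linear_combination -this
  have hb : Function.Bijective fun p : F × F' => (p.1 + p.2 : W) := by
    refine (Fintype.bijective_iff_injective_and_card _).2 ⟨fun p p' e => ?_, by simp [hF]⟩
    have e2 : (p.1 - p'.1 : W) = p'.2 - p.2 := sub_eq_sub_iff_add_eq_add.2 (e.trans (add_comm _ _))
    have e3 : (p.1 - p'.1 : W) ∈ F ⊓ F' := ⟨F.sub_mem p.1.2 p'.1.2, e2 ▸ F'.sub_mem p'.2.2 p.2.2⟩
    rw [hd, AddSubgroup.mem_bot] at e3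
    exact Prod.ext (Subtype.ext (sub_eq_zero.1 e3)) (Subtype.ext (sub_eq_zero.1 (e2 ▸ e3)).symm)
  let N : AddChar V ℂ → ℤ := fun ψ => ∑ f : F, sg h2 ψ (Q f)
  let N' : AddChar V ℂ → ℤ := fun ψ => ∑ f : F', sg h2 ψ (Q f)
  have e2 : ∀ ψ, ψ ≠ 0 → N ψ * N' ψ = -q := fun ψ hψ => by
    have h1 : ∑ v, sg h2 ψ v = 0 := by
      have := AddChar.sum_eq_zero_iff_ne_zero.2 hψ
      simp only [← sg_cast h2 ψ] at this
      exact_mod_cast this
    have h3 := sum_fib h0 hc (sg h2 ψ)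
    rw [h1, AddChar.map_zero_eq_one, e1, ← hb.sum_comp, Fintype.sum_prod_type] at h3
    rw [sum_mul_sum, sum_congr rfl fun f _ => sum_congr rfl fun f' _ => ?_, h3]
    · ring
    · rw [hQ, hB _ f.2 _ f'.2, add_zero, AddChar.map_add_eq_mul]
  have hF' : (Fintype.card F : ℤ) * Fintype.card F' = q ^ 2 := by exact_mod_cast hF.trans hW
  have e3 : ∀ ψ, ψ ≠ 0 → N ψ ^ 2 = Fintype.card F ∧ N' ψ ^ 2 = Fintype.card F' := fun ψ hψ => by
    obtain ⟨a, ha⟩ : _ ∣ N ψ ^ 2 := dvd_sq h2 hQ F (sg h2 ψ)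
    obtain ⟨b, hb⟩ : _ ∣ N' ψ ^ 2 := dvd_sq h2 hQ F' (sg h2 ψ)
    have h1 : a * b = 1 := mul_left_cancel₀ (a := (q : ℤ) ^ 2) (by positivity) (by
      rw [← hF', mul_mul_mul_comm, ← ha, ← hb, hF', ← mul_pow, e2 ψ hψ]; ring)
    have h3 : 0 ≤ a := nonneg_of_mul_nonneg_right (ha ▸ sq_nonneg _) (by
      exact_mod_cast Fintype.card_pos)
    have h4 := Int.eq_one_of_mul_eq_one_right h3 h1
    rw [h4, one_mul] at h1
    rw [ha, hb, h1, h4, mul_one, mul_one]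
    exact ⟨rfl, rfl⟩
  have e4 : ∑ ψ, N ψ = q := by
    rw [sum_comm, sum_eq_single 0]
    · have := AddChar.sum_apply_eq_ite (Q (0 : F))
      simp only [← sg_cast h2, h0, ZeroMemClass.coe_zero, if_true] at this
      exact_mod_cast this
    · intro f _ hf
      have := AddChar.sum_apply_eq_ite (Q f)
      simp only [← sg_cast h2, h0, ZeroMemClass.coe_eq_zero, hf, if_false] at this
      exact_mod_cast this
    · simp
  have e5 : N 0 = Fintype.card F := by simp [N, sg]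
  obtain ⟨ψ₀, hψ⟩ := Fintype.exists_ne_of_one_lt_card (α := AddChar V ℂ)
    (by rw [AddChar.card_eq]; exact q1) 0
  have m0 : N ψ₀ ≠ 0 := fun e => by
    have := e2 ψ₀ hψ
    rw [e, zero_mul] at this
    omega
  have e6 : 2 * N ψ₀ ∣ ∑ ψ ∈ univ.erase 0, (N ψ - N ψ₀) := dvd_sum fun ψ h => by
    rcases sq_eq_sq_iff_eq_or_eq_neg.1 ((e3 ψ (ne_of_mem_erase h)).1.trans (e3 ψ₀ hψ).1.symm) with
      e | e <;> rw [e]
    · simp
    · exact ⟨-1, by ring⟩
  rw [← add_sum_erase univ N (mem_univ 0), e5, ← (e3 ψ₀ hψ).1, ← neg_neg (q : ℤ), ← e2 ψ₀ hψ] at e4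
  rw [sum_sub_distrib, sum_const, card_erase_of_mem (mem_univ _), card_univ, AddChar.card_eq,
    eq_sub_of_add_eq' e4, nsmul_eq_mul, Nat.cast_sub q1.le] at e6
  obtain ⟨d, hd⟩ := e6
  have e7 : N ψ₀ + N' ψ₀ + q - 1 = -2 * d := mul_left_cancel₀ m0 (by
    push_cast at hd; linear_combination -hd)
  have q2 : (2 : ℤ) ∣ q := by exact_mod_cast hV ▸ dvd_pow_self 2 hn
  have k : ∀ (m : ℤ) (E : AddSubgroup W), m ∣ q → ¬ 2 ∣ m → m ^ 2 = Fintype.card E → E = ⊥ :=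
    fun m E h1 h3 h4 => by
    have h5 : m.natAbs ∣ 2 ^ n := hV ▸ Int.natAbs_dvd_natAbs.2 h1
    obtain ⟨j, -, hj⟩ := (Nat.dvd_prime_pow Nat.prime_two).1 h5
    obtain rfl : j = 0 := by_contra fun e =>
      h3 (Int.natAbs_dvd_natAbs.1 (hj ▸ dvd_pow_self 2 e))
    have h6 := congrArg Int.natAbs h4
    rw [Int.natAbs_pow, hj, Int.natAbs_natCast] at h6
    exact AddSubgroup.card_eq_one.1 (by rw [Nat.card_eq_fintype_card, ← h6]; rfl)
  by_cases h : 2 ∣ N ψ₀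
  · exact .inr (k (N' ψ₀) F' (dvd_neg.1 (e2 ψ₀ hψ ▸ dvd_mul_left _ _)) (by omega) (e3 ψ₀ hψ).2)
  · exact .inl (k (N ψ₀) F (dvd_neg.1 (e2 ψ₀ hψ ▸ dvd_mul_right _ _)) h (e3 ψ₀ hψ).1)

/-- an odd order isometry is trivial or fixed point free -/
theorem gauss_aut [Finite W] [Finite V] (h2 : ∀ v : V, v + v = 0) (hW2 : ∀ x : W, x + x = 0)
    {Q : W → V} {B : W → W →+ V}
    (hQ : ∀ x y, Q (x + y) = Q x + Q y + B x y) (h0 : ∀ x, Q x = 0 ↔ x = 0) {c n : ℕ}
    (hc : ∀ v, v ≠ 0 → Nat.card {x // Q x = v} = c) (hn : n ≠ 0) (hV : Nat.card V = 2 ^ n)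
    (hW : Nat.card W = Nat.card V ^ 2) (σ : W →+ W) (hσ : ∀ x, Q (σ x) = Q x) {m : ℕ} (hm : Odd m)
    (hs : ∀ x, σ^[m] x = x) : (∀ x, σ x = x) ∨ ∀ x, σ x = x → x = 0 := by
  have h1 := gauss h2 hQ h0 hc hn hV hW (F := (σ - AddMonoidHom.id W).ker)
    (F' := (σ - AddMonoidHom.id W).range) ?_ ?_ ?_
  · refine h1.symm.imp (fun e x => ?_) fun e x hx => ?_
    · exact sub_eq_zero.1 (AddSubgroup.mem_bot.1 (e ▸ ⟨x, rfl⟩ : σ x - x ∈ (⊥ : AddSubgroup W)))
    · exact AddSubgroup.mem_bot.1 (e ▸ sub_eq_zero.2 hx : x ∈ (⊥ : AddSubgroup W))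
  · rintro f hf _ ⟨x, rfl⟩
    have hf' : σ f = f := sub_eq_zero.1 hf
    have e := hσ (f + x)
    rw [map_add, hQ, hQ, hσ, hσ, hf', add_right_inj] at e
    exact (map_sub _ _ _).trans (sub_eq_zero.2 e)
  · refine eq_bot_iff.2 ?_
    rintro _ ⟨hf, x, rfl⟩
    have hf' : σ (σ x - x) = σ x - x := sub_eq_zero.1 hf
    have e : ∀ i, σ^[i] x = x + i • (σ x - x) := fun i => by
      induction i with
      | zero => simp
      | succ i ih => rw [Function.iterate_succ_apply', ih, map_add, map_nsmul, hf', succ_nsmul]; abel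
    obtain ⟨j, rfl⟩ := hm
    have e' := e (2 * j + 1)
    rw [hs, left_eq_add, succ_nsmul, mul_nsmul, two_nsmul, hW2, nsmul_zero, zero_add] at e'
    exact e'
  · rw [← AddSubgroup.card_mul_index (σ - AddMonoidHom.id W).ker, AddSubgroup.index_ker]

end Cfsg.Agent.Pyr
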