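import Cfsg.Agent.Lib.Pyr.SR
import Cfsg.Agent.Lib.Pyr.Quad
import Cfsg.Agent.Lib.Suz2.Cyclic

/-!
# The centralizer of a normal subgroup consisting of all involutions
-/

set_option autoImplicit false

namespace Cfsg.Agent.Pyr

open Subgroup Cfsg.Agent.OO Cfsg.Agent.Coprime Cfsg.Agent.Sig Cfsg.Agent.GW Cfsg.Agent.W3
open scoped commutatorElement Pointwise IsMulCommutative

universe u

variable {G : Type u} [Group G] {V S : Subgroup G} {k : G}

theorem ab_of_sq (h : ∀ x ∈ V, x * x = 1) : Ab V := ab_iff.2 fun a ha b hb => by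
  have e : ∀ x ∈ V, x⁻¹ = x := fun x hx => inv_eq_of_mul_eq_one_right (h x hx)
  rw [← e _ (mul_mem ha hb), mul_inv_rev, e a ha, e b hb]

/-- the powers of `k` are transitive on the nonidentity elements of `V` -/
def Tr (V : Subgroup G) (k : G) : Prop :=
  ∀ v ∈ V, v ≠ 1 → ∀ w ∈ V, w ≠ 1 → ∃ i : ℕ, k ^ i * v * (k ^ i)⁻¹ = w

theorem Tr.of_mul [hV : V.Normal] {c : G} (h : Tr V (c * k)) (hc : c ∈ 𝐂(V)) : Tr V k := by
  have e : ∀ v ∈ V, ∀ i : ℕ, (c * k) ^ i * v * ((c * k) ^ i)⁻¹ = k ^ i * v * (k ^ i)⁻¹ := by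
    intro v hv i
    induction i with
    | zero => simp
    | succ i ih =>
      have := mem_cent_iff_conj.1 hc _ (hV.conj_mem _ hv (k ^ (i + 1)))
      rw [← this, pow_succ', pow_succ', mul_inv_rev,
        show ∀ a b : G, a * b * v * (b⁻¹ * a⁻¹) = a * (b * v * b⁻¹) * a⁻¹ from fun a b => by group, ih]
      group
  exact fun v hv v1 w hw w1 => (h v hv v1 w hw w1).imp fun i hi => e v hv i ▸ hi

/-- the square of a representative -/
noncomputable def Qf (V : Subgroup G) (a : G ⧸ V) : G := a.out * a.out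

theorem Qf_mk [V.Normal] (hsq : ∀ x ∈ V, x * x = 1) {s : G} (hs : s ∈ 𝐂(V)) :
    Qf V (QuotientGroup.mk' V s) = s * s := by
  obtain ⟨v, e⟩ := QuotientGroup.mk_out_eq_mul V s
  rw [Qf, QuotientGroup.mk'_apply, e, mul_assoc, ← mul_assoc (v : G), mem_cent_iff.1 hs v v.2,
    mul_assoc s, hsq v v.2, mul_one]

theorem exists_quad [V.Normal] [IsMulCommutative V] (hsq : ∀ x ∈ V, x * x = 1) (hS : S ≤ 𝐂(V))
    (h2 : ∀ x ∈ S, x * x ∈ V) (hd : der S ≤ V) [IsMulCommutative (S.map (QuotientGroup.mk' V))] :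
    ∃ (Q : Additive (S.map (QuotientGroup.mk' V)) → Additive V) (B : _ → _ →+ _),
      (∀ x y, Q (x + y) = Q x + Q y + B x y) ∧ ∀ a, ((Q a).toMul : G) = Qf V a.toMul := by
  have hQ : ∀ a ∈ S.map (QuotientGroup.mk' V), Qf V a ∈ V := by
    rintro _ ⟨s, hs, rfl⟩
    exact Qf_mk hsq (hS hs) ▸ h2 s hs
  let Q : Additive (S.map (QuotientGroup.mk' V)) → Additive V := fun a =>
    Additive.ofMul ⟨Qf V a.toMul, hQ _ a.toMul.2⟩
  let r : S → Additive (S.map (QuotientGroup.mk' V)) := fun s =>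
    Additive.ofMul ⟨QuotientGroup.mk' V s, mem_map_of_mem _ s.2⟩
  have hr : ∀ a, ∃ s, r s = a := fun ⟨_, s, hs, e⟩ => ⟨⟨s, hs⟩, Subtype.ext e⟩
  have hm : ∀ x y : S, ((x : G)⁻¹ * y * x * (y : G)⁻¹ : G) ∈ V := fun x y => hd (by
    simpa [commutatorElement_def] using commutator_mem_commutator (inv_mem x.2) y.2)
  have key : ∀ x y : S, Q (r x + r y) - Q (r x) - Q (r y) = Additive.ofMul ⟨_, hm x y⟩ := by
    intro x y
    rw [sub_sub, sub_eq_iff_eq_add, ← add_assoc, add_comm _ (Q (r x))]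
    refine Subtype.ext ?_
    change Qf V (QuotientGroup.mk' V x * QuotientGroup.mk' V y) =
      Qf V (QuotientGroup.mk' V x) * ((x : G)⁻¹ * y * x * (y : G)⁻¹) * Qf V (QuotientGroup.mk' V y)
    rw [← map_mul, Qf_mk hsq (hS x.2), Qf_mk hsq (hS y.2), Qf_mk hsq (hS (mul_mem x.2 y.2))]
    group
  refine ⟨Q, fun a => AddMonoidHom.mk' (fun b => Q (a + b) - Q a - Q b) fun b c => ?_,
    fun x y => by simp, fun _ => rfl⟩
  obtain ⟨x, rfl⟩ := hr a
  obtain ⟨y, rfl⟩ := hr b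
  obtain ⟨z, rfl⟩ := hr c
  rw [key, key, show r y + r z = r (y * z) from Subtype.ext (map_mul _ _ _).symm, key]
  refine Subtype.ext ?_
  change (x : G)⁻¹ * (y * z) * x * (y * z : G)⁻¹ =
    (x : G)⁻¹ * y * x * (y : G)⁻¹ * ((x : G)⁻¹ * z * x * (z : G)⁻¹)
  rw [← mem_cent_iff_conj.1 (hS y.2) _ (hm x z)]
  group

theorem sol_of_map {G' : Type*} [Group G'] {H : Subgroup G} (f : G →* G') (h1 : Sol (H.map f))
    (h2 : Sol (H ⊓ f.ker)) : Sol H := by
  have : Group.IsSolvable (f.subgroupMap H).ker := by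
    rw [ker_subgroupMap, ← inf_subgroupOf_left]; exact Core.isSolvable_subgroupOf h2 H
  exact Group.isSolvable_of_ker_le_range (f.subgroupMap H).ker.subtype (f.subgroupMap H) (by simp)

variable [Finite G]

theorem sol_cent [hV : V.Normal] (hsq : ∀ x, x * x = 1 ↔ x ∈ V) {n : ℕ} (hn : 2 ≤ n)
    (hc : ♯V = 2 ^ n) (tr : Tr V k) : Sol 𝐂(V) := by
  have hsq' : ∀ x ∈ V, x * x = 1 := fun x => (hsq x).2
  have ab := ab_of_sq hsq'
  have hC : 𝐂(V) ⊴ ⊤ := normalIn_top.2 inferInstance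
  obtain ⟨S, hS, hVS⟩ := exists_syl_ge ab.le_cent (isPGroup_of_card_prime_pow hc)
  by_cases ha : Ab S
  · exact sol_of_der (sol_of_odd (odd_of_forall fun a h1 h2 => by_contra fun a1 =>
      not_mem_der hS ha (hVS ((hsq a).1 h2)) a1 (inf_le_left.trans (cent_le_cent1 ((hsq a).1 h2))) h1))
  obtain ⟨c, hc', k', hk', rfl⟩ := (hS.frattini hC).mem_iff.1 (mem_top k)
  replace tr := tr.of_mul hc'
  replace hk' := hk'.2
  obtain ⟨v, w, hv, hw, v1, w1, vw⟩ : ∃ v w, v ∈ V ∧ w ∈ V ∧ v ≠ 1 ∧ w ≠ 1 ∧ v ≠ w := by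
    have := Fintype.ofFinite V
    obtain ⟨a, b, c, h1, h2, h3⟩ := (Fintype.two_lt_card_iff (α := V)).1 (by
      rw [← Nat.card_eq_fintype_card, hc]
      exact lt_of_lt_of_le (by norm_num) (Nat.pow_le_pow_right two_pos hn))
    exact ⟨_, _, (a⁻¹ * b).2, (a⁻¹ * c).2, fun e => h1 (inv_mul_eq_one.1 (Subtype.ext e)),
      fun e => h2 (inv_mul_eq_one.1 (Subtype.ext e)), fun e => h3 (mul_left_cancel (Subtype.ext e))⟩
  obtain ⟨h1, -, h2, h3⟩ := R1.higman G S (zpowers k') hS.isPGroup inferInstance (zpowers_le.2 hk') ha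
    ⟨v, hVS hv, w, hVS hw, vw, v1, hsq' v hv, w1, hsq' w hw⟩ fun x _ y _ x1 x2 y1 y2 =>
      let ⟨i, e⟩ := tr x ((hsq x).1 x2) x1 y ((hsq y).1 y2) y1; ⟨_, pow_mem (mem_zpowers _) i, e⟩
  have hd : ⁅S, S⁆ = V := ext fun x => by
    rw [h1, hsq]; exact and_iff_right_of_imp (hVS ·)
  rw [hd] at h2 h3
  let f := QuotientGroup.mk' V
  have hA : Syl 2 (S.map f) (𝐂(V).map f) := (hS.hall.map f).syl
  have he : IsElementaryAbelian 2 (S.map f) := ⟨ab_iff_der.2 (by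
    rw [← map_der, Subgroup.map_eq_bot_iff, QuotientGroup.ker_mk']; exact hd.le), by
      rintro _ ⟨s, hs, rfl⟩
      rw [← map_pow, pow_two]
      exact (QuotientGroup.eq_one_iff _).2 (h2 s hs)⟩
  have := he.1
  obtain ⟨Q, B, hQ, hQf⟩ := exists_quad hsq' hS.le h2 hd.le
  have hcard : ♯V * ♯(S.map f) = ♯S := by
    rw [← card_mul_relIndex hVS, ← relIndex_ker, QuotientGroup.ker_mk']
  suffices h : Sol (𝐂(V).map f) from sol_of_map _ h (by
    rw [QuotientGroup.ker_mk']; exact sol_of_le (sol_of_ab ab) inf_le_right)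
  have hconj : ∀ g, ∀ a ∈ S.map f, Qf V (f g * a * (f g)⁻¹) = g * Qf V a * g⁻¹ := by
    rintro g _ ⟨s, hs, rfl⟩
    rw [← map_inv, ← map_mul, ← map_mul, Qf_mk hsq' (hS.le hs),
      Qf_mk hsq' (hC.conj_mem (mem_top g) (hS.le hs)), conj_mul]
  have hmem : ∀ a ∈ S.map f, Qf V a ∈ V := fun a ha => hQf (Additive.ofMul ⟨a, ha⟩) ▸ Subtype.prop _
  have hinv : ∀ g ∈ 𝐂(V).map f, ∀ a ∈ S.map f, Qf V (g * a * g⁻¹) = Qf V a := by
    rintro _ ⟨g, hg, rfl⟩ a ha
    rw [hconj g a ha, mem_cent_iff_conj.1 hg _ (hmem a ha)]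
  have h0 : ∀ a ∈ S.map f, Qf V a = 1 ↔ a = 1 := by
    rintro _ ⟨s, hs, rfl⟩
    rw [Qf_mk hsq' (hS.le hs), hsq]
    exact (QuotientGroup.eq_one_iff _).symm
  have hk : ∀ i : ℕ, f (k' ^ i) ∈ 𝐍(S.map f) := fun i =>
    map_norm_le f S (mem_map_of_mem f (pow_mem hk' i))
  have q1 : 1 < ♯V := hc ▸ Nat.one_lt_two_pow (by omega)
  have hsurj : ∀ x ∈ V, ∃ a ∈ S.map f, Qf V a = x := fun x hx => by
    by_cases x1 : x = 1
    · exact ⟨1, one_mem _, x1 ▸ (h0 1 (one_mem _)).2 rfl⟩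
    obtain ⟨a, ha, a1⟩ := exists_mem_ne_one (H := S.map f) fun e => by
      rw [e, card_bot, mul_one] at hcard
      rcases h3 with h | h <;> rw [← hcard] at h <;>
        exact absurd (Nat.pow_right_injective q1 ((pow_one _).trans h)) (by decide)
    obtain ⟨i, e⟩ := tr _ (hmem a ha) ((h0 a ha).not.2 a1) x hx x1
    exact ⟨_, conj_mem_of_norm (hk i) ha, (hconj _ a ha).trans e⟩
  have Qeq : ∀ a x, Q a = x ↔ Qf V a.toMul = x.toMul := fun a x => by
    rw [← hQf, ← Subtype.ext_iff, Additive.toMul.apply_eq_iff_eq]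
  rcases h3 with h3 | h3
  · have hb : Function.Bijective Q := Function.Surjective.bijective_of_nat_card_le (fun x =>
      let ⟨a, ha, e⟩ := hsurj _ x.toMul.2; ⟨Additive.ofMul ⟨a, ha⟩, (Qeq _ _).2 e⟩) (by
        rw [← hcard, pow_two] at h3
        exact (Nat.eq_of_mul_eq_mul_left (card_pos' V) h3).le)
    refine sol_of_burnside hA fun g hg => mem_cent_iff_conj.2 fun a ha => ?_
    exact congrArg Subtype.val (hb.1 (a₁ := Additive.ofMul ⟨_, conj_mem_of_norm hg.2 ha⟩)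
      (a₂ := Additive.ofMul ⟨a, ha⟩) ((Qeq _ _).2 ((hinv g hg.1 a ha).trans
        (hQf (Additive.ofMul ⟨a, ha⟩)).symm)))
  have h4 : ♯(S.map f) = ♯V ^ 2 := by
    rw [← hcard, pow_succ'] at h3
    exact Nat.eq_of_mul_eq_mul_left (card_pos' V) h3
  obtain ⟨a, ha, rfl⟩ := hsurj v hv
  obtain ⟨b, hb, rfl⟩ := hsurj w hw
  refine sol_of_sr hA he ?_ (fun x hx x1 g hg => ?_) ha ((h0 a ha).not.1 v1) hb ((h0 b hb).not.1 w1)
    fun g hg e => vw (e ▸ (hinv g hg a ha).symm)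
  · rw [h4, hc, ← pow_mul]
    exact Nat.pow_le_pow_right two_pos (by omega)
  have fib : ∀ y : Additive V, y ≠ 0 →
      Nat.card {x // Q x = y} = Nat.card {x // Q x = Q (Additive.ofMul ⟨a, ha⟩)} := fun y hy => by
    obtain ⟨i, e⟩ := tr _ hv v1 _ y.toMul.2 fun e => hy (Subtype.ext e)
    refine (Nat.card_congr ((MulEquiv.toAdditive ((S.map f).normalizerMonoidHom
      ⟨_, hk i⟩)).toEquiv.subtypeEquiv fun x => ?_)).symm
    rw [Qeq, Qeq, hQf, ← e]
    exact ((hconj _ _ x.toMul.2).congr_left.trans (by simp)).symm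
  let g' := constt ({2} : Set ℕ)ᶜ g
  have hg' : g' ∈ 𝐂(V).map f ⊓ 𝐍(S.map f) ⊓ 𝐂[x] := constt_mem _ hg
  have := gauss_aut (W := Additive (S.map f)) (V := Additive V) (fun v => Subtype.ext (hsq' _ v.toMul.2))
    (fun v => Subtype.ext ((pow_two v.toMul.1).symm.trans (he.2 _ v.toMul.2))) hQ
    (fun x => (Qeq _ _).trans ((h0 _ x.toMul.2).trans ⟨fun e => Subtype.ext e, fun e => by rw [e]; rfl⟩))
    fib (by omega) hc h4
    (MulEquiv.toAdditive ((S.map f).normalizerMonoidHom ⟨_, hg'.1.2⟩)).toAddMonoidHom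
    (fun x => (Qeq _ _).2 ((hinv _ hg'.1.1 _ x.toMul.2).trans (hQf _).symm)) (m := orderOf g')
    (Nat.not_even_iff_odd.1 fun e => (isPiNum_compl_singleton Nat.prime_two).1 (piElt_constt _ g)
      (even_iff_two_dvd.1 e)) fun x => ?_
  · rw [← constt_mul_constt_compl {2} g]
    refine mul_mem (abelem_le_cent he (hA.mem_of_mem_norm (constt_mem _ hg.1.1)
      (constt_mem _ hg.1.2) (piElt_constt _ _))) (mem_cent_iff_conj.2 fun y hy => ?_)
    exact congrArg Subtype.val ((this.resolve_right fun h => x1 (congrArg Subtype.val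
      (h (Additive.ofMul ⟨x, hx⟩) (Subtype.ext (mem_cent1_iff_conj.1 hg'.2)))))
      (Additive.ofMul ⟨y, hy⟩))
  · have e : ∀ i : ℕ, (((MulEquiv.toAdditive ((S.map f).normalizerMonoidHom
        ⟨_, hg'.1.2⟩)).toAddMonoidHom^[i] x).toMul : G ⧸ V) = g' ^ i * x.toMul * (g' ^ i)⁻¹ := by
      intro i
      induction i with
      | zero => simp
      | succ i ih =>
        rw [Function.iterate_succ_apply', pow_succ', mul_inv_rev,
          show ∀ a b v : G ⧸ V, a * b * v * (b⁻¹ * a⁻¹) = a * (b * v * b⁻¹) * a⁻¹ from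
            fun a b v => by group, ← ih]
        rfl
    refine Subtype.ext ((e _).trans ?_)
    rw [pow_orderOf_eq_one, one_mul, inv_one, mul_one]
    rfl

end Cfsg.Agent.Pyr
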