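import Cfsg.Agent.Lib.GW.Lift
import Cfsg.Agent.Lib.SE.Basic

/-!
# Extensions inducing all automorphisms of the group of involutions
-/

set_option autoImplicit false

namespace Cfsg.Agent.Pyr

open Subgroup Cfsg.Agent.OO Cfsg.Agent.Coprime Cfsg.Agent.GW
open scoped commutatorElement Pointwise

universe u

variable {X : Type u} {A A' : Type*} [Group X] [Group A] [Group A'] {ι : A →* X} {π : X →* MulAut A}

/-- `ι A` consists of the involutions of `X`, and `X` induces all automorphisms of `A` -/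
structure Ext (ι : A →* X) (π : X →* MulAut A) : Prop where
  inj : Function.Injective ι
  conj : ∀ g a, ι (π g a) = g * ι a * g⁻¹
  surj : Function.Surjective π
  sq : ∀ x, x * x = 1 ↔ x ∈ ι.range

namespace Ext

variable (h : Ext ι π)
include h

theorem congr (e : A ≃* A') : Ext (ι.comp e.symm.toMonoidHom) ((MulAut.congr e).toMonoidHom.comp π) :=
  ⟨h.inj.comp e.symm.injective, fun g a => by simp [h.conj], (MulAut.congr e).surjective.comp h.surj,
    fun x => (h.sq x).trans ⟨fun ⟨a, ha⟩ => ⟨e a, by simp [ha]⟩, fun ⟨a, ha⟩ => ⟨_, ha⟩⟩⟩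

theorem sq' (a : A) : ι a * ι a = 1 := (h.sq _).2 ⟨a, rfl⟩

theorem ker_eq : π.ker = 𝐂(ι.range) := ext fun g => by
  rw [mem_cent_iff_conj, MonoidHom.mem_ker, MulEquiv.ext_iff]
  exact ⟨fun e _ ⟨a, ha⟩ => by rw [← ha, ← h.conj, e]; rfl,
    fun e a => h.inj ((h.conj g a).trans (e _ ⟨a, rfl⟩))⟩

theorem normal : ι.range.Normal := ⟨fun _ ⟨a, ha⟩ g => ⟨_, ha ▸ h.conj g a⟩⟩

variable [Finite X]

theorem eq_one {B : Subgroup X} (ho : Odd ♯B) {x : X} (hx : x ∈ B) (h2 : x ∈ ι.range) : x = 1 :=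
  by_contra fun x1 => Nat.not_even_iff_odd.2 ho (even_iff_two_dvd.2 (SE.two_dvd hx x1 ((h.sq x).2 h2)))

theorem fix {B : Subgroup X} (ho : Odd ♯B) {a : A} (ha : ι a ∈ 𝐍(B)) {b : X} (hb : b ∈ B) :
    π b a = a := by
  have := h.eq_one ho (mul_mem hb (conj_mem_of_norm ha (inv_mem hb))) ⟨π b a * a⁻¹, by
    rw [map_mul, h.conj, map_inv]; group⟩
  refine h.inj ((h.conj b a).trans (mul_inv_eq_one.1 (Eq.trans ?_ this)))
  group

theorem lift (hK : IsPGroup 2 π.ker) {D : Subgroup (MulAut A)} (ho : Odd ♯D) {u : MulAut A}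
    (hu : u ∈ 𝐍(D)) : ∃ B : Subgroup X, Odd ♯B ∧ B.map π = D ∧ ∃ x ∈ 𝐍(B), π x = u := by
  have : Finite (MulAut A) := .of_surjective _ h.surj
  have hle : π.ker ≤ D.comap π := ker_le_comap π D
  have e : (D.comap π).map π = D := map_comap_eq_self_of_surjective h.surj D
  obtain ⟨B, h1, h2⟩ := (IsPiHallOf.of_pi hle (piGrp_singleton hK) (by
    rw [relIndex_ker, e]; exact odd_iff.1 ho)).exists_sdprod (le_normalizer_of_normal)
  have hB := odd_iff.2 h2.piGrp
  obtain ⟨x, rfl⟩ := h.surj u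
  have hx : x ∈ 𝐍(D.comap π) := mem_norm_of_conj_mem fun y hy => by
    rw [mem_comap, map_mul, map_mul, map_inv]; exact conj_mem_of_norm hu hy
  obtain ⟨y, hy, z, hz, rfl⟩ := (h2.frattini (h1.sol (sol_of_isPGroup hK) (sol_of_odd hB))
    (normalIn_norm _)).mem_iff.1 hx
  obtain ⟨k, hk, b, hb, rfl⟩ := h1.mem_iff.1 hy
  refine ⟨B, hB, ?_, b * z, mul_mem (le_norm_self B hb) hz.2, ?_⟩
  · rw [← e, ← h1.sup_eq, Subgroup.map_sup, (Subgroup.map_eq_bot_iff _).2 le_rfl, bot_sup_eq]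
  · rw [mul_assoc, map_mul π k, hk, one_mul]

theorem exists_fix (hK : IsPGroup 2 π.ker) {D : Subgroup (MulAut A)} (ho : Odd ♯D) {u : MulAut A}
    (hu : u ∈ 𝐍(D)) (u1 : u ≠ 1) (u2 : u * u = 1) : ∃ a, a ≠ 1 ∧ ∀ d ∈ D, d a = a := by
  obtain ⟨B, hB, rfl, x, hx, rfl⟩ := h.lift hK ho hu
  obtain ⟨_, hz, z1, z2⟩ := SE.exists_inv (H := zpowers x) (by
    rw [Nat.card_zpowers, ← orderOf_eq_prime ((pow_two _).trans u2) u1]; exact orderOf_map_dvd π x)
  obtain ⟨a, rfl⟩ := (h.sq _).1 z2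
  exact ⟨a, fun e => z1 (by rw [e, map_one]), fun _ ⟨b, hb, e⟩ =>
    e ▸ h.fix hB (zpowers_le.2 hx hz) hb⟩

end Ext

theorem Ext.reduce (h2 : ∀ (X : Type u) [Group X] [Finite X] (ι : A →* X) (π : X →* MulAut A),
    Ext ι π → ¬ IsPGroup 2 π.ker) [Finite X] : ¬ Ext ι π := by
  induction hn : Nat.card X using Nat.strong_induction_on generalizing X with
  | _ n ih =>
  intro h
  obtain ⟨r, hr, hd, r2⟩ := exists_prime_not_mem fun e : PiGrp {2} π.ker => h2 X ι π h e.isPGroup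
  have := Fact.mk hr
  obtain ⟨R, hR⟩ := exists_syl r π.ker
  have ho := odd_of_isPGroup r2 hR.isPGroup
  by_cases e : 𝐍(R) = ⊤
  · have := normalizer_eq_top_iff.1 e
    let f := QuotientGroup.mk' R
    have hk : Odd ♯f.ker := by rwa [QuotientGroup.ker_mk']
    refine ih _ ?_ (ι := f.comp ι) (π := QuotientGroup.lift R π hR.le) rfl ⟨?_, ?_, ?_, fun x => ?_⟩
    · rw [← hn, ← R.card_mul_index]
      exact lt_mul_of_one_lt_left Nat.card_pos (one_lt_card (hR.ne_bot hd))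
    · exact (injective_iff_map_eq_one _).2 fun a ha => h.inj ((h.eq_one hk ha ⟨a, rfl⟩).trans
        (map_one ι).symm)
    · rintro ⟨g⟩ a
      exact (congrArg f (h.conj g a)).trans (by simp [f]; rfl)
    · intro y
      obtain ⟨x, rfl⟩ := h.surj y
      exact ⟨x, rfl⟩
    · refine ⟨fun hx => ?_, fun ⟨a, ha⟩ => by rw [← ha, MonoidHom.comp_apply, ← map_mul, h.sq', map_one]⟩
      obtain ⟨y, rfl, hy⟩ := SE.lift_inv (QuotientGroup.mk'_surjective R) hk hx
      obtain ⟨a, rfl⟩ := (h.sq y).1 hy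
      exact ⟨a, rfl⟩
  · have hm : ∀ a, ι a ∈ 𝐍(R) := fun a =>
      cent_le_norm R (le_cent_symm (hR.le.trans h.ker_eq.le) ⟨a, rfl⟩)
    refine ih _ ?_ (ι := ι.codRestrict _ hm) (π := π.comp (𝐍(R)).subtype) rfl
      ⟨fun a b e => h.inj (congrArg Subtype.val e), fun g a => Subtype.ext (h.conj g a), fun y => ?_,
        fun x => ?_⟩
    · rw [← hn, ← card_top (G := X)]
      exact card_lt (lt_top_iff_ne_top.2 e)
    · obtain ⟨x, rfl⟩ := h.surj y
      obtain ⟨k, hk, z, hz, rfl⟩ := (hR.frattini (normalIn_top.2 inferInstance)).mem_iff.1 (mem_top x)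
      exact ⟨⟨z, hz.2⟩, by rw [map_mul π k, hk, one_mul]; rfl⟩
    · rw [Subtype.ext_iff]
      exact (h.sq x).trans ⟨fun ⟨a, ha⟩ => ⟨a, Subtype.ext ha⟩, fun ⟨a, ha⟩ => ⟨a, congrArg Subtype.val ha⟩⟩

theorem not_ext_ring {R : Type*} [CommRing R] [IsReduced R] (h2 : ∀ x : R, x + x = 0) (σ : R ≃+* R)
    (hσ : ∀ x, σ (σ x) = x) {w : R} (hw : σ w ≠ w) (c : Rˣ) (hc : ∀ y : R, c * y = y → y = 0)
    [Finite X] {ι : Multiplicative R →* X} {π : X →* MulAut (Multiplicative R)} : ¬ Ext ι π := by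
  refine Ext.reduce fun X _ _ ι π h hK => ?_
  have : Finite (MulAut (Multiplicative R)) := .of_surjective _ h.surj
  let φ : Rˣ →* MulAut (Multiplicative R) := MonoidHom.mk'
    (fun c => AddEquiv.toMultiplicative (DistribMulAction.toAddEquiv R c)) fun a b =>
      MulEquiv.ext fun x => mul_smul a b x.toAdd
  refine (h.exists_fix hK (D := φ.range) (u := AddEquiv.toMultiplicative σ.toAddEquiv)
    (odd_of_forall ?_) (mem_norm_of_conj_mem ?_) (fun e => hw (MulEquiv.ext_iff.1 e w))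
    (MulEquiv.ext hσ)).elim fun a ha => ha.1 (hc a.toAdd (ha.2 _ ⟨c, rfl⟩))
  · rintro _ ⟨d, rfl⟩ e
    have e1 : (d : R) * (d * 1) = 1 := MulEquiv.ext_iff.1 e (1 : R)
    have e2 : (d : R) - 1 = 0 := pow_eq_zero_iff (n := 2) two_ne_zero |>.1 (by
      linear_combination e1 - h2 d + h2 1)
    rw [show d = 1 from Units.ext (sub_eq_zero.1 e2), map_one]
  · rintro _ ⟨d, rfl⟩
    refine ⟨Units.map σ.toMonoidHom d, MulEquiv.ext fun x => ?_⟩
    change σ d * x.toAdd = σ (d * σ.symm x.toAdd)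
    rw [map_mul, σ.apply_symm_apply]

theorem nonempty_addEquiv {V W : Type*} [AddCommGroup V] [AddCommGroup W] [Finite V] [Finite W]
    (hV : ∀ v : V, v + v = 0) (hW : ∀ v : W, v + v = 0) (h : Nat.card V = Nat.card W) :
    Nonempty (V ≃+ W) := by
  let := AddCommGroup.zmodModule (n := 2) fun x => (two_nsmul x).trans (hV x)
  let := AddCommGroup.zmodModule (n := 2) fun x => (two_nsmul x).trans (hW x)
  rw [Module.natCard_eq_pow_finrank (K := ZMod 2), Module.natCard_eq_pow_finrank (K := ZMod 2) (V := W),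
    Nat.card_zmod] at h
  exact ⟨(LinearEquiv.ofFinrankEq V W (Nat.pow_right_injective le_rfl h)).toAddEquiv⟩

theorem Ext.exists_congr (h : Ext ι π) [Finite A] {W : Type*} [AddCommGroup W] [Finite W]
    (hW : ∀ v : W, v + v = 0) (hc : Nat.card A = Nat.card W) :
    ∃ (ι' : Multiplicative W →* X) (π' : X →* _), Ext ι' π' := by
  have h2 : ∀ a : A, a * a = 1 := fun a => h.inj (by rw [map_mul, h.sq', map_one])
  let : CommGroup A := ⟨fun a b => by
    have e : ∀ x : A, x⁻¹ = x := fun x => inv_eq_of_mul_eq_one_right (h2 x)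
    rw [← e (a * b), mul_inv_rev, e, e]⟩
  obtain ⟨e⟩ := nonempty_addEquiv (V := Additive A) h2 hW hc
  exact ⟨_, _, h.congr (AddEquiv.toMultiplicativeRight e)⟩

theorem exists_unit {n : ℕ} (hn : 2 ≤ n) : ∃ c : (GaloisField 2 n)ˣ, c ≠ 1 := by
  have : Nontrivial (GaloisField 2 n)ˣ := Finite.one_lt_card_iff_nontrivial.1 (by
    rw [Nat.card_units, GaloisField.card 2 n (by omega)]
    have := Nat.pow_le_pow_right two_pos hn
    omega)
  exact exists_ne 1

theorem eq_zero_of_mul {K : Type*} [Field K] {c : Kˣ} (hc : c ≠ 1) (y : K) (h : c * y = y) : y = 0 :=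
  by_contra fun e => hc (Units.ext ((mul_eq_right₀ e).1 h))

theorem not_ext [Finite X] [Finite A] {n : ℕ} (hn : 2 ≤ n) (h3 : n ≠ 3) (hc : Nat.card A = 2 ^ n) :
    ¬ Ext ι π := fun h => by
  obtain ⟨w, hw⟩ := exists_unit le_rfl
  have := Fintype.ofFinite (GaloisField 2 2)
  have c4 := GaloisField.card 2 2 two_ne_zero
  let σ := frobeniusEquiv (GaloisField 2 2) 2
  have hσ : ∀ x, σ (σ x) = x := fun x => by
    rw [frobeniusEquiv_def, frobeniusEquiv_def, ← pow_mul, ← pow_two, ← c4, Nat.card_eq_fintype_card,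
      FiniteField.pow_card]
  have hw' : σ w ≠ w := fun e => w.ne_zero (eq_zero_of_mul hw _ ((pow_two _).symm.trans e))
  by_cases e : n = 2
  · obtain ⟨ι', π', h'⟩ := h.exists_congr (W := GaloisField 2 2) CharTwo.add_self_eq_zero
      (by rw [hc, c4, e])
    exact not_ext_ring CharTwo.add_self_eq_zero σ hσ hw' w (eq_zero_of_mul hw) h'
  obtain ⟨m, rfl⟩ : ∃ m, n = 2 + m := ⟨n - 2, by omega⟩
  obtain ⟨c, hc'⟩ := exists_unit (n := m) (by omega)
  have h2 : ∀ v : GaloisField 2 2 × GaloisField 2 m, v + v = 0 := fun v =>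
    Prod.ext (CharTwo.add_self_eq_zero _) (CharTwo.add_self_eq_zero _)
  obtain ⟨ι', π', h'⟩ := h.exists_congr h2
    (by rw [hc, Nat.card_prod, c4, GaloisField.card 2 m (by omega), pow_add])
  exact not_ext_ring h2 (σ.prodCongr (RingEquiv.refl _)) (fun x => Prod.ext (hσ _) rfl) (w := (w, 0))
    (fun e => hw' (congrArg Prod.fst e)) (MulEquiv.prodUnits.symm (w, c)) (fun y hy =>
      Prod.ext (eq_zero_of_mul hw _ (congrArg Prod.fst hy)) (eq_zero_of_mul hc' _ (congrArg Prod.snd hy))) h'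

end Cfsg.Agent.Pyr
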