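import Cfsg.Agent.Lib.Pyr.Lin3
import Cfsg.Agent.Lib.Pyr.GL

/-!
# Extensions of a homocyclic group of rank three by `GL₃(2)` have outer involutions
-/

set_option autoImplicit false

namespace Cfsg.Agent.Pyr

open Subgroup Cfsg.Agent.OO Module
open scoped commutatorElement Pointwise IsMulCommutative

theorem exists_basis {W : Type*} [AddCommGroup W] {d : ℕ} [Module (ZMod (2 ^ (d + 1))) W]
    (h1 : ∀ x : W, 2 ^ (d + 1) • x = 0) {b0 b1 b2 : W}
    (ind : ∀ x y z : Fin 2, x.val • 2 ^ d • b0 + y.val • 2 ^ d • b1 + z.val • 2 ^ d • b2 = 0 →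
      x = 0 ∧ y = 0 ∧ z = 0)
    (sp : ∀ w : W, w + w = 0 → ∃ x y z : ℕ, x • 2 ^ d • b0 + y • 2 ^ d • b1 + z • 2 ^ d • b2 = w) :
    ∃ b : Basis (Fin 3) (ZMod (2 ^ (d + 1))) W, b 0 = b0 ∧ b 1 = b1 ∧ b 2 = b2 := by
  have k1 : ∀ j ≤ d + 1, ∀ x y z : ℕ, x • b0 + y • b1 + z • b2 = 0 →
      2 ^ j ∣ x ∧ 2 ^ j ∣ y ∧ 2 ^ j ∣ z := by
    intro j hj x y z e
    induction j with
    | zero => simp
    | succ j ih =>
      obtain ⟨⟨x, rfl⟩, ⟨y, rfl⟩, ⟨z, rfl⟩⟩ := ih (by omega)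
      obtain ⟨i, rfl⟩ : ∃ i, d = i + j := ⟨d - j, by omega⟩
      have m : ∀ (n : ℕ) (w : W), (n % 2) • 2 ^ (i + j) • w = 2 ^ i • (2 ^ j * n) • w := fun n w => by
        rw [← nsmul_eq_mod_nsmul n (by rw [← mul_smul, ← pow_succ', h1]), ← mul_smul, ← mul_smul,
          pow_add]
        congr 1; ring
      obtain ⟨e1, e2, e3⟩ := ind ⟨x % 2, by omega⟩ ⟨y % 2, by omega⟩ ⟨z % 2, by omega⟩ (by
        rw [m, m, m, ← smul_add, ← smul_add, e, smul_zero])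
      simp only [Fin.mk_eq_zero] at e1 e2 e3
      simp only [pow_succ]
      exact ⟨mul_dvd_mul_left _ (by omega), mul_dvd_mul_left _ (by omega),
        mul_dvd_mul_left _ (by omega)⟩
  have k2 : ∀ j ≤ d + 1, ∀ w : W, 2 ^ j • w = 0 → ∃ x y z : ℕ, x • b0 + y • b1 + z • b2 = w := by
    intro j hj
    induction j with
    | zero => exact fun w e => ⟨0, 0, 0, by simpa using e.symm⟩
    | succ j ih =>
      intro w e
      obtain ⟨i, rfl⟩ : ∃ i, d = i + j := ⟨d - j, by omega⟩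
      obtain ⟨x, y, z, e1⟩ := sp (2 ^ j • w) (by rw [← two_nsmul, ← mul_smul, ← pow_succ', e])
      obtain ⟨x', y', z', e2⟩ := ih (by omega)
        (w - ((x * 2 ^ i) • b0 + (y * 2 ^ i) • b1 + (z * 2 ^ i) • b2)) (by
          rw [smul_sub, ← e1, pow_add]; module)
      exact ⟨x' + x * 2 ^ i, y' + y * 2 ^ i, z' + z * 2 ^ i, by
        rw [eq_sub_iff_add_eq.1 e2 |>.symm]; module⟩
  refine ⟨Basis.mk (v := ![b0, b1, b2]) (Fintype.linearIndependent_iff.2 fun g e => ?_) fun w _ => ?_,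
    by simp⟩
  · have m : ∀ (c : ZMod (2 ^ (d + 1))) (w : W), c • w = c.val • w := fun c w => by
      rw [← Nat.cast_smul_eq_nsmul (ZMod (2 ^ (d + 1))), ZMod.natCast_zmod_val]
    have m' : ∀ c : ZMod (2 ^ (d + 1)), 2 ^ (d + 1) ∣ c.val → c = 0 := fun c hc => by
      rw [← ZMod.natCast_zmod_val c, (ZMod.natCast_eq_zero_iff _ _).2 hc]
    rw [Fin.sum_univ_three, m, m, m] at e
    obtain ⟨e1, e2, e3⟩ := k1 _ le_rfl _ _ _ e
    intro i
    fin_cases i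
    exacts [m' _ e1, m' _ e2, m' _ e3]
  · obtain ⟨x, y, z, rfl⟩ := k2 _ le_rfl w (h1 w)
    refine add_mem (add_mem (nsmul_mem (Submodule.subset_span ?_) _)
      (nsmul_mem (Submodule.subset_span ?_) _)) (nsmul_mem (Submodule.subset_span ?_) _)
    exacts [⟨0, rfl⟩, ⟨1, rfl⟩, ⟨2, rfl⟩]

theorem fix_of_rel {W X : Type*} [AddCommGroup W] [Group X] {d : ℕ} (h1 : ∀ x : W, 2 ^ (d + 1) • x = 0)
    (σ : X → W →+ W) (hσ : ∀ g h w, σ (g * h) w = σ g (σ h w)) {K : Subgroup X}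
    (hK : ∀ m ∈ K, ∀ w, σ m w = w) {y x1 x2 : X} (y4 : y * y * (y * y) ∈ K)
    (hy : x1 * (y * y) * x1⁻¹ * (x2 * (y * y) * x2⁻¹) * y⁻¹ ∈ K) {b0 : W}
    (ind : ∀ a b c : Fin 2, a.val • 2 ^ d • b0 + b.val • 2 ^ d • σ y b0 +
      c.val • 2 ^ d • σ y (σ y b0) = 0 → a = 0 ∧ b = 0 ∧ c = 0)
    (sp : ∀ w : W, w + w = 0 → ∃ a b c : ℕ, a • 2 ^ d • b0 + b • 2 ^ d • σ y b0 +
      c • 2 ^ d • σ y (σ y b0) = w) {m : W} (hm : σ y m = m) : ∃ m', m = m' + σ y (σ y m') := by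
  obtain ⟨_⟩ : Nonempty (Module (ZMod (2 ^ (d + 1))) W) := ⟨AddCommGroup.zmodModule h1⟩
  obtain ⟨b, e0, e1, e2⟩ := exists_basis h1 ind sp
  let L : X →* Module.End (ZMod (2 ^ (d + 1))) W := ⟨⟨fun g => (σ g).toZModLinearMap _,
    LinearMap.ext (hK 1 (one_mem K))⟩, fun g g' => LinearMap.ext (hσ g g')⟩
  have hL : ∀ m ∈ K, L m = 1 := fun m hm => LinearMap.ext (hK m hm)
  let D := LinearMap.det.comp L
  have hD : ∀ x a, D (x * a * x⁻¹) = D a := fun x a => by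
    rw [map_mul, map_mul, mul_right_comm, ← map_mul, mul_inv_cancel, map_one, one_mul]
  have hD' : ∀ m ∈ K, D m = 1 := fun m hm => by rw [MonoidHom.comp_apply, hL m hm, map_one]
  have hy1 : D y = 1 := by
    have := hD' _ hy
    rw [map_mul, map_mul, hD, hD, ← map_mul, hD' _ y4, one_mul] at this
    rw [← one_mul (D y), ← this, ← map_mul, inv_mul_cancel, this, map_one]
  refine fix_of_det b (L y) (e0 ▸ e1 ▸ rfl) (e1 ▸ e2 ▸ rfl) ?_ hy1 hm
  rw [e2, e0]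
  refine Eq.trans ?_ (hK _ y4 _)
  simp only [hσ]; rfl

universe u

variable {X : Type u} [Group X] {ι : V3 →* X} {π : X →* MulAut V3}

theorem Ext.mem_ker (h : Ext ι π) (a : V3) : ι a ∈ π.ker := MulEquiv.ext fun b => h.inj (by
  rw [h.conj, ← map_inv, ← map_mul, ← map_mul, mul_inv_cancel_comm]; rfl)

theorem Ext.not_ab [Finite X] (h : Ext ι π) (hK : IsPGroup 2 π.ker) : ¬ Ab π.ker := fun ha => by
  classical
  have hex : ∃ e, ∀ m : π.ker, m ^ 2 ^ e = 1 :=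
    let ⟨n, hn⟩ := hK.exists_card_eq; ⟨n, fun m => hn ▸ pow_card_eq_one'⟩
  have e31 : e3 ≠ 1 := by decide
  obtain ⟨d, hd⟩ := Nat.exists_eq_add_one_of_ne_zero (n := Nat.find hex) fun e => e31 (h.inj (by
    have := Nat.find_spec hex ⟨_, h.mem_ker e3⟩
    rw [e, pow_zero, pow_one] at this
    exact (congrArg Subtype.val this).trans (map_one ι).symm))
  have h1 := hd ▸ Nat.find_spec hex
  obtain ⟨g, hg⟩ := not_forall.1 (Nat.find_min hex (m := d) (by omega))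
  have sq : ∀ m : π.ker, m * m = 1 → ∃ a, ι a = m := fun m e => (h.sq _).1 (congrArg Subtype.val e)
  obtain ⟨a, e⟩ := sq (g ^ 2 ^ d) (by rw [← pow_two, ← pow_mul, ← pow_succ, h1])
  obtain ⟨i, hi⟩ := k0_tr a e3 (fun e' => hg (Subtype.ext (by rw [← e, e', map_one]; rfl))) e31
  obtain ⟨x, hx⟩ := h.surj (k0 ^ i.val)
  let ρ : X →* MulAut π.ker := MulAut.conjNormal
  have hρ : ∀ (x : X) (m : π.ker) a, ι a = (m ^ 2 ^ d : π.ker) → ι (π x a) = (ρ x m ^ 2 ^ d : π.ker) :=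
    fun x m a e => by rw [h.conj, e, ← map_pow]; rfl
  obtain ⟨y, hy⟩ := h.surj y0
  have e0 := hρ x g a e
  rw [hx, hi] at e0
  generalize ρ x g = g0 at e0
  have e1 := hρ y _ _ e0
  have e2 := hρ y _ _ e1
  rw [hy] at e1 e2
  have key : ∀ a b c : ℕ, ((a • 2 ^ d • Additive.ofMul g0 + b • 2 ^ d • Additive.ofMul (ρ y g0) +
      c • 2 ^ d • Additive.ofMul (ρ y (ρ y g0))).toMul : X) =
      ι (e3 ^ a * y0 e3 ^ b * y0 (y0 e3) ^ c) := fun a b c => by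
    simp only [map_mul, map_pow, e0, e1, e2]; rfl
  have y4 : y * y * (y * y) ∈ π.ker := by rw [MonoidHom.mem_ker, map_mul, map_mul, hy, y0_four]
  obtain ⟨x1, h2⟩ := h.surj s1
  obtain ⟨x2, h3⟩ := h.surj s2
  obtain ⟨m, hm⟩ := fix_of_rel (W := Additive π.ker) h1
    (fun g => (MulEquiv.toAdditive (ρ g)).toAddMonoidHom) (fun g g' w => by rw [map_mul]; rfl)
    (fun m hm w => Subtype.ext (mem_cent_iff_conj.1 (ha.le_cent hm) _ w.toMul.2)) y4
    (x1 := x1) (x2 := x2) (by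
      simp only [MonoidHom.mem_ker, map_mul, map_inv, hy, h2, h3, y0_eq, mul_inv_cancel])
    (b0 := .ofMul g0) (fun a b c e => indep a b c (h.inj (by
      rw [← key, map_one]; exact congrArg Subtype.val e))) (fun w e => by
      obtain ⟨v, hv⟩ := sq w.toMul e
      obtain ⟨a, b, c, rfl⟩ := span3 v
      exact ⟨a, b, c, Subtype.ext ((key _ _ _).trans hv)⟩) (m := .ofMul ⟨_, y4⟩) (Subtype.ext (by
      change y * (y * y * (y * y)) * y⁻¹ = y * y * (y * y)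
      group))
  replace hm : y * y * (y * y) = m.toMul * (y * (y * m.toMul * y⁻¹) * y⁻¹) := congrArg Subtype.val hm
  obtain ⟨v, hv⟩ := (h.sq (y * y * (m.toMul : X)⁻¹)).1 (by
    have c := ab_iff.1 ha _ m.toMul.2 _ ((MonoidHom.normal_ker π).conj_mem _ m.toMul.2 (y * y))
    calc _ = (y * y * m.toMul * (y * y)⁻¹)⁻¹ * (y * y * (y * y)) * (m.toMul : X)⁻¹ := by
          simp only [mul_assoc, mul_inv_rev, inv_inv, inv_mul_cancel_left]
      _ = (y * y * m.toMul * (y * y)⁻¹)⁻¹ * (m.toMul * (y * y * m.toMul * (y * y)⁻¹)) *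
        (m.toMul : X)⁻¹ := by rw [hm]; simp only [mul_assoc, mul_inv_rev]
      _ = 1 := by rw [c]; group)
  have := h.mem_ker v
  rw [hv, mul_mem_cancel_right (inv_mem m.toMul.2), MonoidHom.mem_ker, map_mul, hy] at this
  exact y0_sq this

end Cfsg.Agent.Pyr
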