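import Cfsg.Agent.Lib.GW.Lift
import Cfsg.Agent.Lib.SE.Basic
import Cfsg.Agent.Lib.Frob.QuatSquare
import Cfsg.Agent.Lib.Char.Burnside
import Cfsg.Agent.Lib.PGrp.RankOne

/-!
# Groups whose involutions are congruent modulo the odd core
-/

set_option autoImplicit false

namespace Cfsg.Agent.Pyr

open Subgroup Cfsg.Agent.OO Cfsg.Agent.Coprime Cfsg.Agent.GW
open scoped commutatorElement Pointwise IsMulCommutative

universe u

variable {G : Type u} [Group G] [Finite G]

theorem isSquare_of_inv {K : Subgroup G} {i j : G} (ho : Odd ♯K) (hi : i ∈ 𝐍(K)) (hj : j ∈ 𝐍(K))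
    (h2 : i * i * (i * i) = 1) (hij : j * j = i * i) (hc : j * i * j⁻¹ = i⁻¹)
    (h0 : K ⊓ 𝐂[i * i] = ⊥) : IsSquare ♯K := by
  have hinv := fun k hk => conj_eq_inv h2 (mul_mem hi hi) h0 (x := k) hk
  have := ab_of_inf_eq_bot h2 (mul_mem hi hi) h0
  let I : K →* K := (K.normalizerMonoidHom ⟨i, hi⟩).toMonoidHom
  let J : K →* K := (K.normalizerMonoidHom ⟨j, hj⟩).toMonoidHom
  have hI : ∀ k : K, (I k : G) = i * k * i⁻¹ := fun k => rfl
  have hJ : ∀ k : K, (J k : G) = j * k * j⁻¹ := fun k => rfl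
  refine Frob.isSquare_card_of_quat (M := Additive K) ho (MonoidHom.toAdditive I)
    (MonoidHom.toAdditive J) (fun v => ?_) (fun v => ?_) (fun v => ?_)
  · change I (I v.toMul) = (v.toMul)⁻¹
    ext
    rw [hI, hI, coe_inv, ← hinv _ v.toMul.2]; group
  · change J (J v.toMul) = (v.toMul)⁻¹
    ext
    rw [hJ, hJ, coe_inv, ← hinv _ v.toMul.2, ← hij]; group
  · change I (J v.toMul) = (J (I v.toMul))⁻¹
    ext
    rw [coe_inv, ← hinv _ (J (I v.toMul)).2, hI, hJ, hJ, hI]
    have h1 : i * j = i * i * j * i := by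
      calc i * j = i * i * (j * i * j⁻¹) * j := by rw [hc]; group
        _ = _ := by group
    calc i * (j * v.toMul * j⁻¹) * i⁻¹ = (i * j) * v.toMul * (i * j)⁻¹ := by group
      _ = _ := by rw [h1]; group

theorem isSquare_relIndex {K : Subgroup G} {i j : G} (ho : Odd ♯K) (hi : i ∈ 𝐍(K)) (hj : j ∈ 𝐍(K))
    (h2 : i * i * (i * i) = 1) (hij : j * j = i * i) (hc : j * i * j⁻¹ = i⁻¹) :
    IsSquare (𝐂[i * i].relIndex K) := by
  induction hn : ♯K using Nat.strong_induction_on generalizing G with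
  | _ n ih =>
  by_cases h0 : K = ⊥
  · rw [h0, relIndex_bot_right]; exact IsSquare.one
  obtain ⟨N, hN, h1, N0, p, -, he⟩ := exists_norm_abelem (sol_of_odd ho) h0 le_rfl
  have hK : N ⊴ K := ⟨hN, (le_norm_self K).trans h1⟩
  have oN := odd_of_le ho hN
  have ht := h1 (mul_mem hi hi)
  have h3 := ih _ (hn ▸ card_quo_lt hN N0) (odd_quo ho N) (coset_mem_norm N hi) (coset_mem_norm N hj)
    (by rw [← coset_mul (h1 hi) (h1 hi), ← coset_mul ht ht, h2, coset_one])
    (by rw [← coset_mul (h1 hi) (h1 hi), ← coset_mul (h1 hj) (h1 hj), hij])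
    (by rw [← coset_conj (h1 hj) (h1 hi), hc, coset_inv]) rfl
  rw [← coset_mul (h1 hi) (h1 hi)] at h3
  have cp := coprime_zp oN h2
  have h4 := coprime_abelian_cent_dprod (zpowers_le.2 ht) cp he.1
  have k : ∀ g ∈ 𝐍(K), g ∈ 𝐂[i * i] → g ∈ 𝐍(⁅N, zpowers (i * i)⁆) := fun g hg hg' =>
    zpowers_le.1 (le_norm_commutator (zpowers_le.2 (h1 hg))
      (zpowers_le.2 (cent_le_norm _ ((cent_zpowers _).ge hg'))))
  have h5 := isSquare_of_inv (odd_of_le oN h4.left_le) (k i hi (mem_cent1.2 (mul_assoc _ _ _).symm))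
    (k j hj (hij ▸ mem_cent1.2 (mul_assoc _ _ _).symm)) h2 hij hc
    (cent_zpowers (i * i) ▸ coprime_abel_cent_TI (zpowers_le.2 ht) cp he.1)
  have e1 := card_inf_mul_relIndex 𝐂[i * i] K
  have e2 := card_inf_mul_relIndex 𝐂[coset N (i * i)] (K ⁒ N)
  have e3 := card_inf_mul_card_quo (inf_le_left.trans hK.norm : K ⊓ 𝐂[i * i] ≤ 𝐍(N))
  have e4 := card_mul_card_quo hK
  have e5 := h4.card
  rw [quo_inf_cent1 hN ht (by rwa [Nat.card_zpowers] at cp), ← inf_assoc, inf_eq_left.2 hN] at e3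
  rw [cent_zpowers] at e5
  rw [inf_comm] at e1 e2
  rw [show 𝐂[i * i].relIndex K = ♯⁅N, zpowers (i * i)⁆ * 𝐂[coset N (i * i)].relIndex (K ⁒ N) from
    mul_left_cancel₀ (card_pos' (K ⊓ 𝐂[i * i])).ne' (by rw [e1, ← e4, ← e5, ← e2, ← e3]; ring)]
  exact h5.mul h3

theorem sol_nine (hc : Nat.card {x : G // orderOf x = 2} = 9)
    (nc : ∀ s t : G, orderOf s = 2 → orderOf t = 2 → s * t * s⁻¹ = t → s = t) :
    Group.IsSolvable G := by
  classical
  let : MulAction G {x : G // orderOf x = 2} :=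
    { smul := fun g x => ⟨g * x * g⁻¹, (orderOf_conj g x).trans x.2⟩
      one_smul := fun x => Subtype.ext (by change 1 * x.1 * 1⁻¹ = x; group)
      mul_smul := fun g h x => Subtype.ext (by
        change g * h * x.1 * (g * h)⁻¹ = g * (h * x * h⁻¹) * g⁻¹; group) }
  have := Fintype.ofFinite {x : G // orderOf x = 2}
  let φ := MulAction.toPermHom G {x : G // orderOf x = 2}
  have h1 : Sol φ.ker := sol_of_odd (odd_of_forall fun s hs s2 => by_contra fun s1 => by
    have := Finite.one_lt_card_iff_nontrivial.1 (hc ▸ (by decide : 1 < 9))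
    obtain ⟨t, ht⟩ := exists_ne (⟨s, orderOf_eq_two s2 s1⟩ : {x : G // orderOf x = 2})
    exact ht (Subtype.ext (nc s t (orderOf_eq_two s2 s1) t.2
      (congrArg Subtype.val (Equiv.ext_iff.1 hs t))).symm))
  have h2 : Group.IsSolvable φ.range := by
    refine Char.solvable_of_two_primes Nat.prime_two Nat.prime_three fun r hr hd => ?_
    have := Fact.mk hr
    obtain ⟨_, ⟨g, rfl⟩, ho⟩ := cauchy hr hd
    have e1 := Equiv.Perm.card_fixedPoints_modEq (f := fun x => φ g x) (p := r) (n := 1) (by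
      funext x
      change (φ g)^[r ^ 1] x = x
      rw [pow_one, ← Equiv.Perm.coe_pow, ← ho, pow_orderOf_eq_one]; rfl)
    have e2 : Fintype.card (Function.fixedPoints fun x => φ g x) < 9 := by
      rw [← hc, Nat.card_eq_fintype_card]
      obtain ⟨x, hx⟩ := not_forall.1 fun e => hr.one_lt.ne' (by
        rw [← ho, show φ g = 1 from Equiv.ext e, orderOf_one])
      exact Fintype.card_subtype_lt (x := x) hx
    rw [← Nat.card_eq_fintype_card, hc] at e1
    by_cases e : Nonempty (Function.fixedPoints fun x => φ g x)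
    · obtain ⟨s, hs⟩ := e
      have hs' : g * s * g⁻¹ = s := congrArg Subtype.val hs
      have e3 := Equiv.Perm.card_fixedPoints_modEq
        (α := Function.fixedPoints fun x => φ g x) (f := fun x => ⟨s.1 • x.1, Subtype.ext (by
          change g * (s.1 * x.1.1 * s.1⁻¹) * g⁻¹ = s.1 * x.1.1 * s.1⁻¹
          rw [← conj_mul, ← conj_mul, ← conj_inv, hs', show g * x.1.1 * g⁻¹ = x.1.1 from
            congrArg Subtype.val x.2])⟩) (p := 2) (n := 1) (by
        funext x
        refine Subtype.ext ((mul_smul s.1 s.1 x.1).symm.trans ?_)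
        rw [SE.sq_of_two s.2, one_smul]; rfl)
      rw [(Fintype.card_eq_one_iff (α := Function.fixedPoints _)).2 ⟨⟨⟨s, hs⟩, Subtype.ext
        (Subtype.ext (mul_inv_cancel_right _ _))⟩, fun x => Subtype.ext (Subtype.ext (Subtype.ext
          (nc _ _ s.2 x.1.1.2 (congrArg (·.1.1) x.2)).symm))⟩] at e3
      have h5 := Nat.le_of_dvd (by omega) ((Nat.modEq_iff_dvd' e2.le).1 e1.symm)
      unfold Nat.ModEq at e1 e3
      have h6 : r < 9 := by omega
      interval_cases r <;> first | omega | exact absurd hr (by decide)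
    · rw [Fintype.card_eq_zero_iff.2 (not_nonempty_iff.1 e)] at e1
      exact .inr ((Nat.prime_dvd_prime_iff_eq hr Nat.prime_three).1
        (hr.dvd_of_dvd_pow (n := 2) ((Nat.modEq_zero_iff_dvd).1 e1)))
  exact Group.isSolvable_of_ker_le_range φ.ker.subtype φ.rangeRestrict (by simp)

theorem card_inv {t : G} (ht : orderOf t = 2)
    (hc : ∀ x y : G, orderOf x = 2 → orderOf y = 2 → ∃ g : G, g * x * g⁻¹ = y) :
    Nat.card {x : G // orderOf x = 2} = 𝐂[t].index := by
  rw [← Char.card_isConj_eq_index]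
  exact Nat.card_congr (Equiv.subtypeEquivRight fun x => ⟨fun h => isConj_iff.2 (hc t x ht h),
    fun h => let ⟨g, e⟩ := isConj_iff.1 h; e ▸ (orderOf_conj g t).trans ht⟩)

theorem sol_or_square (hc : ∀ x y : G, orderOf x = 2 → orderOf y = 2 → ∃ g : G, g * x * g⁻¹ = y)
    (hu : ∀ s t : G, orderOf s = 2 → orderOf t = 2 → s * t ∈ O ⊤) :
    Group.IsSolvable G ∨ IsSquare (Nat.card {x : G // orderOf x = 2}) := by
  obtain ⟨S, hS⟩ := exists_syl 2 (⊤ : Subgroup G)
  have hO := O_norm (⊤ : Subgroup G)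
  have hr := PGrp.rank_le_one_of_unique (p := 2) (G := S) fun x y hx hy => by
    have : (y * x : G) ∈ S ⊓ O ⊤ := ⟨mul_mem y.2 x.2, hu _ _ ((orderOf_coe y).trans hy)
      ((orderOf_coe x).trans hx)⟩
    rw [inf_eq_bot_of_coprime_card (coprime_of_isPGroup hS.isPGroup (Op'_piGrp 2 _))] at this
    exact eq_inv_of_mul_eq_one_left (Subtype.ext this : y * x = 1) ▸ inv_mem (mem_zpowers x)
  rcases PGrp.isCyclic_or_quaternion_gens_of_rank_le_one hS.isPGroup hr with
    h | ⟨-, n, x, y, hn, -, hx, -, h1, h2⟩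
  · have := (cyclic_pdiv_normal_complement hS h fun _ hq _ => hq.two_le).sol
      (sol_of_odd (odd_O _)) hS.sol
    exact .inl (Group.isSolvable_of_surjective (f := (⊤ : Subgroup G).subtype)
      fun g => ⟨⟨g, trivial⟩, rfl⟩)
  · obtain ⟨m, rfl⟩ := Nat.exists_eq_add_of_le' hn
    have e1 : (x ^ 2 ^ m * x ^ 2 ^ m : S) = y * y := by
      rw [← pow_two y, h2, ← pow_two, ← pow_mul]; rfl
    have e2 : orderOf (x ^ 2 ^ m * x ^ 2 ^ m : S) = 2 := by
      rw [← pow_two, ← pow_mul, ← pow_succ, orderOf_pow' _ (by positivity), hx,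
        Nat.gcd_eq_right (pow_dvd_pow 2 (by omega)), pow_succ' 2 (m + 1), Nat.mul_div_cancel _ (by positivity)]
    rw [← orderOf_coe] at e2
    have h3 := isSquare_relIndex (odd_O ⊤) (hO (mem_top (x ^ 2 ^ m : S).1)) (hO (mem_top y.1))
      (SE.sq_of_two e2) (congrArg Subtype.val e1.symm) (congrArg Subtype.val (show
        y * x ^ 2 ^ m * y⁻¹ = (x ^ 2 ^ m)⁻¹ by rw [← conj_pow, h1, inv_pow]))
    rw [card_inv e2 hc, ← relIndex_top_right]
    rw [← relIndex_sup_eq (.inr (le_top.trans hO))] at h3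
    suffices e : O (⊤ : Subgroup G) ⊔ 𝐂[(x ^ 2 ^ m : S).1 * (x ^ 2 ^ m : S).1] = ⊤ from
      .inr (by rwa [e] at h3)
    refine eq_top_iff.2 fun g _ => ?_
    obtain ⟨c, hc, e⟩ := coprime_cent_lift (zpowers_le.2 (hO (mem_top _))) (coprime_zp (odd_O ⊤)
      (SE.sq_of_two e2)) (.inl (sol_of_odd (odd_O ⊤))) (hO (mem_top g)) fun a ha => by
        rcases (mem_zp (SE.sq_of_two e2)).1 ha with rfl | rfl
        · simp
        · exact hu _ _ ((orderOf_conj _ _).trans e2) ((orderOf_inv _).trans e2)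
    exact (mul_mem_cancel_left (mem_sup_left hc)).1 (mem_sup_right ((cent_zpowers _).le e))

end Cfsg.Agent.Pyr
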