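import Mathlib

set_option autoImplicit false

/-! The affine group `F² ⋊ SL(2, F)` has one class of `|F|²` involutions and is not solvable. -/

namespace Cfsg.Agent.Pyr

open Matrix MatrixGroups

section
variable (F : Type) [Field F]

/-- The natural action of `SL(2, F)` on `F²`, written multiplicatively. -/
noncomputable def affAct : SL(2, F) →* MulAut (Multiplicative (Fin 2 → F)) :=
  MonoidHom.mk' (fun A => AddEquiv.toMultiplicative (DistribMulAction.toAddEquiv (Fin 2 → F) A))
    (by
      intro A B
      ext v
      simp [mul_smul])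

theorem affAct_apply (A : SL(2, F)) (v : Multiplicative (Fin 2 → F)) :
    affAct F A v = Multiplicative.ofAdd (A • v.toAdd) := rfl

/-- The affine group. -/
abbrev Aff := Multiplicative (Fin 2 → F) ⋊[affAct F] SL(2, F)

variable {F}

theorem sl2_sq (h2 : (2 : F) ≠ 0) (A : SL(2, F)) (h : A * A = 1) : A = 1 ∨ A = -1 := by
  have hd := A.det_coe
  rw [Matrix.det_fin_two] at hd
  have e : A.1 * A.1 = 1 := by
    have := congrArg (fun X : SL(2, F) => X.1) h
    simpa using this
  have e00 := congrFun (congrFun e 0) 0
  have e01 := congrFun (congrFun e 0) 1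
  have e10 := congrFun (congrFun e 1) 0
  have e11 := congrFun (congrFun e 1) 1
  simp only [Matrix.mul_apply, Fin.sum_univ_two, Matrix.one_apply_eq, Fin.isValue,
    Matrix.one_apply_ne, ne_eq, zero_ne_one, not_false_eq_true, one_ne_zero] at e00 e01 e10 e11
  set a := A.1 0 0 with ha
  set b := A.1 0 1 with hb
  set c := A.1 1 0 with hc
  set d := A.1 1 1 with hdd
  have ht : a + d ≠ 0 := by
    intro h0
    apply h2
    have : d = -a := by linear_combination h0
    rw [this] at hd
    linear_combination -hd - e00
  have hb0 : b = 0 := by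
    have : b * (a + d) = 0 := by linear_combination e01
    exact (mul_eq_zero.mp this).resolve_right ht
  have hc0 : c = 0 := by
    have : c * (a + d) = 0 := by linear_combination e10
    exact (mul_eq_zero.mp this).resolve_right ht
  have had : a = d := by
    have : (a - d) * (a + d) = 0 := by linear_combination e00 - e11
    exact sub_eq_zero.mp ((mul_eq_zero.mp this).resolve_right ht)
  have h1 : (a - 1) * (a + 1) = 0 := by
    rw [hb0] at e00
    linear_combination e00
  rcases mul_eq_zero.mp h1 with h1 | h1
  · left
    have ha1 : a = 1 := by linear_combination h1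
    ext i j
    fin_cases i <;> fin_cases j <;> simp [← ha, ← hb, ← hc, ← hdd, hb0, hc0, ← had, ha1]
  · right
    have ha1 : a = -1 := by linear_combination h1
    ext i j
    fin_cases i <;> fin_cases j <;> simp [← ha, ← hb, ← hc, ← hdd, hb0, hc0, ← had, ha1]

theorem neg_one_smul' (v : Fin 2 → F) : (-1 : SL(2, F)) • v = -v := by
  rw [Matrix.SpecialLinearGroup.smul_def]
  simp [Matrix.smul_eq_mulVec, Matrix.neg_mulVec]

theorem neg_one_ne_one' (h2 : (2 : F) ≠ 0) : (-1 : SL(2, F)) ≠ 1 := by
  intro h
  have := congrArg (fun X : SL(2, F) => X.1 0 0) h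
  simp at this
  exact h2 (by linear_combination -this)

theorem aff_order_two (h2 : (2 : F) ≠ 0) (x : Aff F) : orderOf x = 2 ↔ x.right = -1 := by
  constructor
  · intro h
    have hx : x * x = 1 := by
      have := pow_orderOf_eq_one x
      rwa [h, pow_two] at this
    have hr : x.right * x.right = 1 := by
      have := congrArg SemidirectProduct.right hx
      simpa using this
    rcases sl2_sq h2 _ hr with h1 | h1
    · exfalso
      have hl := congrArg SemidirectProduct.left hx
      rw [SemidirectProduct.mul_left, h1, map_one] at hl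
      simp only [MulAut.one_apply, SemidirectProduct.one_left] at hl
      have hl' : x.left.toAdd + x.left.toAdd = 0 := by
        have := congrArg Multiplicative.toAdd hl
        simpa using this
      have h0 : x.left.toAdd = 0 := by
        have : (2 : F) • x.left.toAdd = 0 := by rw [two_smul]; exact hl'
        exact (smul_eq_zero.mp this).resolve_left h2
      have : x = 1 := by
        apply SemidirectProduct.ext
        · simpa using h0
        · simp [h1]
      rw [this, orderOf_one] at h
      exact absurd h (by decide)
    · exact h1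
  · intro h
    apply orderOf_eq_prime
    · rw [pow_two]
      apply SemidirectProduct.ext
      · rw [SemidirectProduct.mul_left, h, affAct_apply, neg_one_smul']
        simp
      · simp [h]
    · intro h1
      rw [h1] at h
      exact neg_one_ne_one' h2 (by simpa using h.symm)

theorem aff_card (h2 : (2 : F) ≠ 0) :
    Nat.card {x : Aff F // orderOf x = 2} = Nat.card F ^ 2 := by
  have e : {x : Aff F // orderOf x = 2} ≃ (Fin 2 → F) :=
    { toFun := fun x => x.1.left.toAdd
      invFun := fun v => ⟨⟨Multiplicative.ofAdd v, -1⟩, (aff_order_two h2 _).mpr rfl⟩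
      left_inv := by
        rintro ⟨x, hx⟩
        apply Subtype.ext
        apply SemidirectProduct.ext
        · rfl
        · exact ((aff_order_two h2 _).mp hx).symm
      right_inv := fun v => rfl }
  rw [Nat.card_congr e, Nat.card_fun]
  simp

theorem aff_conj (h2 : (2 : F) ≠ 0) (x y : Aff F) (hx : orderOf x = 2) (hy : orderOf y = 2) :
    ∃ g : Aff F, g * x * g⁻¹ = y := by
  rw [aff_order_two h2] at hx hy
  refine ⟨⟨Multiplicative.ofAdd ((2 : F)⁻¹ • (y.left.toAdd - x.left.toAdd)), 1⟩, ?_⟩
  rw [mul_inv_eq_iff_eq_mul]
  apply SemidirectProduct.ext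
  · simp only [SemidirectProduct.mul_left, map_one, MulAut.one_apply, hy, affAct_apply,
      neg_one_smul']
    apply Multiplicative.toAdd.injective
    simp only [toAdd_mul, toAdd_ofAdd]
    ext i
    simp only [Pi.add_apply, Pi.smul_apply, Pi.sub_apply, smul_eq_mul, Pi.neg_apply]
    field_simp
    ring
  · simp [hx, hy]

theorem aff_not_solvable {a : F} (ha : a ≠ 0) (hasq : a ^ 2 ≠ 1) (h2 : (2 : F) ≠ 0) :
    ¬ Group.IsSolvable (Aff F) := by
  intro h
  have hs : Group.IsSolvable SL(2, F) :=
    Group.isSolvable_of_surjective (SemidirectProduct.rightHom_surjective (φ := affAct F))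
  haveI : Nontrivial SL(2, F) := ⟨⟨-1, 1, neg_one_ne_one' h2⟩⟩
  haveI : Group.IsPerfect SL(2, F) := ⟨Matrix.SL2.commutator_eq_top ha hasq⟩
  exact Group.IsPerfect.not_isSolvable SL(2, F) hs

instance [Finite F] : Finite (Aff F) := by
  haveI : Finite SL(2, F) := by
    unfold Matrix.SpecialLinearGroup
    infer_instance
  exact Finite.of_equiv _ (SemidirectProduct.equivProd (φ := affAct F)).symm

end

theorem exists_sq_ne_one {F : Type} [Field F] [Finite F] (h : 3 < Nat.card F) :
    ∃ a : F, a ≠ 0 ∧ a ^ 2 ≠ 1 := by
  classical
  by_contra hc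
  push Not at hc
  haveI := Fintype.ofFinite F
  have : (Finset.univ : Finset F) ⊆ {0, 1, -1} := by
    intro a _
    by_cases h0 : a = 0
    · simp [h0]
    · have := hc a h0
      rcases sq_eq_one_iff.mp this with h | h <;> simp [h]
  have h1 := Finset.card_le_card this
  have h2 : ({0, 1, -1} : Finset F).card ≤ 3 := Finset.card_le_three
  rw [Finset.card_univ, ← Nat.card_eq_fintype_card] at h1
  omega

end Cfsg.Agent.Pyr
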