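import Cfsg.Agent.Lib.Pyr.Ab3
import Cfsg.Agent.Lib.Pyr.Kern

/-!
# Extensions of a Suzuki 2-group by `GL₃(2)` have outer involutions
-/

set_option autoImplicit false

namespace Cfsg.Agent.Pyr

open Subgroup Cfsg.Agent.OO Cfsg.Agent.Coprime Cfsg.Agent.GW
open scoped commutatorElement Pointwise

universe u

variable {X : Type u} [Group X] [Finite X] {ι : V3 →* X} {π : X →* MulAut V3}

omit [Finite X] in
theorem Ext.le_ker (h : Ext ι π) {x : X} (hx : x ∈ ι.range) : x ∈ π.ker :=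
  let ⟨a, e⟩ := hx; e ▸ h.mem_ker a

omit [Finite X] in
theorem Ext.ab_of_inj (h : Ext ι π) (h2 : ∀ s ∈ π.ker, s * s ∈ ι.range)
    (inj : ∀ s ∈ π.ker, ∀ t ∈ π.ker, s * s = t * t → s⁻¹ * t ∈ ι.range) : Ab π.ker := by
  refine ab_iff.2 fun s hs t ht => by_contra fun e => ?_
  have hc : ∀ s ∈ π.ker, ∀ v ∈ ι.range, v * s = s * v := fun s hs => mem_cent_iff.1 (h.ker_eq ▸ hs)
  have one : ∀ {s a}, ι a = s * s → a = 1 → s ∈ ι.range := fun e e' =>
    (h.sq _).1 (by rw [← e, e', map_one])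
  obtain ⟨a, ha⟩ := h2 s hs
  obtain ⟨b, hb⟩ := h2 t ht
  obtain ⟨c, hc'⟩ := h2 _ (mul_mem hs ht)
  have s1 : s ∉ ι.range := fun e' => e (hc t ht s e')
  have t1 : t ∉ ι.range := fun e' => e (hc s hs t e').symm
  obtain ⟨i, hi⟩ := axis a b (fun e' => s1 (one ha e')) (fun e' => t1 (one hb e')) fun e' => e (by
    have := hc s hs _ (inj s hs t ht (by rw [← ha, ← hb, e']))
    rw [mul_inv_cancel_left, mul_assoc, inv_mul_eq_iff_eq_mul] at this
    exact this.symm)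
  obtain ⟨g, hg⟩ := h.surj (k0 ^ i.val * (y0 * y0) * (k0 ^ i.val)⁻¹)
  rw [← hg] at hi
  have k : ∀ s ∈ π.ker, ∀ a, ι a = s * s → π g a = a → ∃ v ∈ ι.range, g * s * g⁻¹ = s * v :=
    fun s hs a ha e => ⟨_, inj s hs _ ((MonoidHom.normal_ker π).conj_mem s hs g) (by
      rw [conj_mul, ← ha, ← h.conj, e]), (mul_inv_cancel_left _ _).symm⟩
  obtain ⟨v, hv, e1⟩ := k s hs a ha ((hi a).2 (by simp))
  obtain ⟨w, hw, e2⟩ := k t ht b hb ((hi b).2 (by simp))
  have e3 : π g c = c := h.inj (by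
    have := h.normal
    rw [h.conj, hc', ← conj_mul, ← conj_mul, e1, e2,
      ← Qf_mk (fun x => (h.sq x).2) (h.ker_eq.le (mul_mem hs ht)),
      ← Qf_mk (fun x => (h.sq x).2) (h.ker_eq.le (mul_mem (mul_mem hs (h.le_ker hv))
        (mul_mem ht (h.le_ker hw))))]
    simp only [map_mul, QuotientGroup.mk'_apply, (QuotientGroup.eq_one_iff _).2 hv,
      (QuotientGroup.eq_one_iff _).2 hw, mul_one])
  rcases (hi c).1 e3 with e4 | e4 | e4 | e4
  · have := hc s hs _ (one hc' e4)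
    rw [mul_assoc, mul_right_inj] at this
    exact e this.symm
  · exact t1 (by simpa using inj s hs _ (mul_mem hs ht) (by rw [← ha, ← hc', e4]))
  · exact s1 (by simpa [mul_assoc] using (h.normal.conj_mem _
      (inj t ht _ (mul_mem hs ht) (by rw [← hb, ← hc', e4])) t))
  · rw [e4, map_mul, ha, hb, mul_assoc, mul_assoc, mul_right_inj, ← mul_assoc, ← mul_assoc,
      mul_left_inj] at hc'
    exact e hc'

theorem Ext.not_four (h : Ext ι π) {B : Subgroup X} (hB : Odd ♯B) (hK : IsPGroup 2 π.ker)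
    (h2 : ∀ s ∈ π.ker, s * s ∈ ι.range) {b x : X} (hb : b ∈ B) (e : π b = a0) (hx : x ∈ 𝐍(B))
    (e' : π x = y0 * y0) {r s : X} (hr : r ∈ π.ker ⊓ 𝐂(B)) (hs : s ∈ π.ker ⊓ 𝐂(B))
    (r1 : r ∉ ι.range) (s1 : s ∉ ι.range) (rs : r * s ∉ ι.range) (h3 : ⁅x, r⁆ ∈ ι.range)
    (h4 : ⁅x, s⁆ ∈ ι.range) : False := by
  set z := ι e2
  have z2 : z * z = 1 := h.sq' _
  have hz : ∀ v ∈ ι.range, v ∈ 𝐂(B) → v = 1 ∨ v = z := by
    rintro _ ⟨v, rfl⟩ hv
    exact (a0_fix v (e ▸ h.fix hB (cent_le_norm B hv) hb)).imp (fun e => by rw [e, map_one])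
      (congrArg ι)
  have hc : ∀ s ∈ π.ker, z * s = s * z := fun s hs => mem_cent_iff.1 (h.ker_eq.le hs) z ⟨_, rfl⟩
  have sq : ∀ t ∈ π.ker ⊓ 𝐂(B), t ∉ ι.range → t * t = z := fun t ht t1 =>
    (hz _ (h2 t ht.1) (mul_mem ht ht).2).resolve_left fun e => t1 ((h.sq t).1 e)
  have cm : ∀ t ∈ π.ker ⊓ 𝐂(B), ⁅x, t⁆ ∈ ι.range → x * t * x⁻¹ = t ∨ x * t * x⁻¹ = z * t :=
    fun t ht h => (hz _ h (mul_mem (conj_mem_of_norm (norm_le_norm_cent B hx) ht.2)
      ((𝐂(B)).inv_mem ht.2))).imp mul_inv_eq_one.1 mul_inv_eq_iff_eq_mul.1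
  have xz : x * z * x⁻¹ = z := by rw [← h.conj, e']; exact congrArg ι (by decide)
  have x1 : x ∉ π.ker := fun h => y0_sq (e' ▸ h)
  have x2 : x * x ∈ π.ker ⊓ 𝐂(B) := by
    have h5 : x * x ∈ π.ker := by rw [MonoidHom.mem_ker, map_mul, e', y0_four]
    refine ⟨h5, mem_cent_iff_conj.2 fun c hc => mul_inv_eq_one.1 (mem_bot.1 ?_)⟩
    rw [← inf_eq_bot_of_coprime_card (coprime_of_isPGroup hK (odd_iff.1 hB))]
    refine ⟨?_, B.mul_mem (conj_mem_of_norm (mul_mem hx hx) hc) (B.inv_mem hc)⟩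
    simpa [mul_assoc] using mul_mem h5 ((MonoidHom.normal_ker π).conj_mem _ (inv_mem h5) c)
  by_cases h5 : x * x ∈ ι.range
  · have h6 : x * x = z := (hz _ h5 x2.2).resolve_left fun e =>
      x1 (h.le_ker ((h.sq x).1 e))
    have k : ∀ t ∈ π.ker ⊓ 𝐂(B), t ∉ ι.range → x * t * x⁻¹ ≠ t := fun t ht t1 e =>
      x1 ((π.ker.mul_mem_cancel_right ht.1).1 (h.le_ker ((h.sq (x * t)).1 (by
        calc _ = x * t * x⁻¹ * (x * x) * t := by group
          _ = 1 := by rw [e, h6, ← hc t ht.1, mul_assoc, sq t ht t1, z2]))))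
    refine k _ (mul_mem hr hs) rs ?_
    rw [← conj_mul, (cm r hr h3).resolve_left (k r hr r1), (cm s hs h4).resolve_left (k s hs s1),
      hc r hr.1, mul_assoc, ← mul_assoc z, z2, one_mul]
  · have k : ∀ t ∈ π.ker ⊓ 𝐂(B), t ∉ ι.range → ⁅x, t⁆ ∈ ι.range → x * x * t ∈ ι.range :=
      fun t ht t1 h6 => (h.sq _).1 (by
        have e : x * (x * t * x⁻¹) * x⁻¹ = t := by
          rcases cm t ht h6 with e | e
          · rw [e, e]
          · rw [e, ← conj_mul, xz, e, ← mul_assoc, z2, one_mul]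
        calc _ = x * (x * t * x⁻¹) * x⁻¹ * (x * x * (x * x)) * t := by
              simp only [mul_assoc, inv_mul_cancel_left]
          _ = 1 := by rw [e, sq _ x2 h5, ← hc t ht.1, mul_assoc, sq t ht t1, z2])
    refine rs ?_
    have := mul_mem (h2 r hr.1) (mul_mem (inv_mem (k r hr r1 h3)) (k s hs s1 h4))
    simpa [mul_assoc] using this

theorem not_ext3 : ¬ Ext ι π := by
  refine Ext.reduce fun X _ _ ι π h hK => ?_
  have : Finite (MulAut V3) := .of_surjective _ h.surj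
  have ha := h.not_ab hK
  obtain ⟨k, hk⟩ := h.surj k0
  have tr : Tr ι.range k := by
    rintro _ ⟨a, rfl⟩ a1 _ ⟨b, rfl⟩ b1
    obtain ⟨i, e⟩ := k0_tr a b (fun e => a1 (by rw [e, map_one])) fun e => b1 (by rw [e, map_one])
    exact ⟨i, by rw [← h.conj, map_pow, hk, e]⟩
  have ne : ∀ a b : V3, a ≠ b → ι a ≠ ι b := fun a b => h.inj.ne
  obtain ⟨h1, -, h2, h3⟩ := R1.higman X π.ker (zpowers k) hK inferInstance le_normalizer_of_normal ha
    ⟨_, h.mem_ker e2, _, h.mem_ker e3, ne _ _ (by decide), map_one ι ▸ ne _ _ (by decide), h.sq' _,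
      map_one ι ▸ ne _ _ (by decide), h.sq' _⟩ fun x _ y _ x1 x2 y1 y2 =>
      let ⟨i, e⟩ := tr x ((h.sq x).1 x2) x1 y ((h.sq y).1 y2) y1; ⟨_, pow_mem (mem_zpowers _) i, e⟩
  have hVM : ι.range ≤ π.ker := fun _ => h.le_ker
  have hd : ⁅π.ker, π.ker⁆ = ι.range := ext fun x => by
    rw [h1, h.sq]; exact and_iff_right_of_imp (hVM ·)
  have c8 : ♯ι.range = 8 := (Nat.card_congr (MonoidHom.ofInjective h.inj).toEquiv).symm.trans (by
    rw [Nat.card_eq_fintype_card]; rfl)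
  rw [hd] at h2 h3
  have := h.normal
  let f := QuotientGroup.mk' ι.range
  have hsq : ∀ x ∈ ι.range, x * x = 1 := fun x => (h.sq x).2
  have hcard : ♯ι.range * ♯(π.ker.map f) = ♯π.ker := by
    rw [← card_mul_relIndex hVM, ← relIndex_ker, QuotientGroup.ker_mk']
  rw [← hcard, c8] at h3
  have f1 : ∀ x, f x = 1 ↔ x ∈ ι.range := QuotientGroup.eq_one_iff
  rcases h3 with h3 | h3
  · have hQ : ∀ a ∈ π.ker.map f, Qf ι.range a ∈ ι.range := by
      rintro _ ⟨s, hs, rfl⟩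
      exact Qf_mk hsq (h.ker_eq ▸ hs) ▸ h2 s hs
    have hb : Function.Bijective fun a : π.ker.map f => (⟨_, hQ _ a.2⟩ : ι.range) := by
      refine Function.Surjective.bijective_of_nat_card_le (fun v => ?_) (by omega)
      by_cases v1 : v.1 = 1
      · exact ⟨1, Subtype.ext ((Qf_mk hsq (one_mem _)).trans ((one_mul _).trans v1.symm))⟩
      obtain ⟨_, ⟨s, hs, rfl⟩, s1⟩ := exists_mem_ne_one (H := π.ker.map f) fun e => by
        rw [e, card_bot] at h3; omega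
      obtain ⟨i, e⟩ := tr _ (h2 s hs) (fun e => s1 ((f1 s).2 ((h.sq s).1 e))) v v.2 v1
      have := (MonoidHom.normal_ker π).conj_mem s hs (k ^ i)
      exact ⟨⟨_, mem_map_of_mem f this⟩, Subtype.ext ((Qf_mk hsq (h.ker_eq ▸ this)).trans
        ((conj_mul).trans e))⟩
    exact ha (h.ab_of_inj h2 fun s hs t ht e => QuotientGroup.eq.1 (congrArg Subtype.val
      (hb.1 (a₁ := ⟨_, mem_map_of_mem f hs⟩) (a₂ := ⟨_, mem_map_of_mem f ht⟩) (Subtype.ext
        ((Qf_mk hsq (h.ker_eq ▸ hs)).trans (e.trans (Qf_mk hsq (h.ker_eq ▸ ht)).symm))))))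
  have he : IsElementaryAbelian 2 (π.ker.map f) := ⟨ab_iff_der.2 (by
    rw [← map_der, Subgroup.map_eq_bot_iff, QuotientGroup.ker_mk']; exact hd.le), by
      rintro _ ⟨s, hs, rfl⟩
      rw [← map_pow, pow_two]
      exact (f1 _).2 (h2 s hs)⟩
  have hN : (π.ker.map f).Normal := (MonoidHom.normal_ker π).map f (QuotientGroup.mk'_surjective _)
  obtain ⟨B, hB, eB, x, hx, ex⟩ := h.lift hK (D := zpowers a0) (by
    rw [Nat.card_zpowers]
    exact Odd.of_dvd_nat (by decide) (orderOf_dvd_of_pow_eq_one a0_cube)) (u := y0 * y0) (by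
    rw [← conj_eq_self_iff, conj_zpowers, a0_inv, zpowers_inv])
  obtain ⟨y, hy⟩ := h.surj y0
  obtain ⟨g, hg⟩ := h.surj s3
  have h4 := fix_big he (by omega) (y := f y) (le_normalizer_of_normal (mem_top _)) (by
    rw [← map_mul, ← map_mul]
    exact abelem_le_cent he (mem_map_of_mem f (by
      rw [MonoidHom.mem_ker, map_mul, map_mul, hy, y0_four])))
  set P := π.ker.map f ⊓ 𝐂[f y * f y]
  have h5 : f g •ᶜ P ≤ π.ker.map f := conj_le_of_mem_norm (le_normalizer_of_normal (mem_top _))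
    inf_le_left
  have h6 := card_sup_mul_card_inf (.inl (inf_le_left.trans (le_norm_of_ab he.1 h5)) :
    P ≤ 𝐍(f g •ᶜ P) ∨ f g •ᶜ P ≤ 𝐍(P))
  have h7 := card_le (sup_le inf_le_left h5 : P ⊔ f g •ᶜ P ≤ π.ker.map f)
  rw [card_conj] at h6
  have h8 : 2 < ♯(P ⊓ f g •ᶜ P) := by nlinarith
  obtain ⟨b, hb, eb⟩ := eB.ge (mem_zpowers a0)
  have k : ∀ a ∈ P ⊓ f g •ᶜ P, ∃ r ∈ π.ker ⊓ 𝐂(B), f r = a ∧ ⁅x, r⁆ ∈ ι.range := by
    rintro _ ⟨⟨⟨r, hr, rfl⟩, h9⟩, h10⟩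
    have hU : π.ker ≤ 𝐂[f r].comap f := fun m hm =>
      cent_le_cent1 (mem_map_of_mem f hr) (abelem_le_cent he (mem_map_of_mem f hm))
    have u1 : y * y ∈ 𝐂[f r].comap f := mem_cent1_comm.1 h9
    have u2 : g * (y * y) * g⁻¹ ∈ 𝐂[f r].comap f := mem_cent1_comm.1 (by
      rw [map_mul, map_mul, map_inv, cent1_conj]; exact conj_mono _ inf_le_right h10)
    have u3 : ∀ c, π c ∈ (𝐂[f r].comap f).map π → ⁅c, r⁆ ∈ ι.range := fun c hc => by
      rw [← mem_comap, comap_map_eq_self hU, mem_comap, mem_cent1_iff_conj] at hc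
      rw [← f1, commutatorElement_def, map_mul, map_mul, map_mul, map_inv, map_inv, hc, mul_inv_cancel]
    obtain ⟨v, hv, e⟩ := coprime_cent_lift (A := B) (N := ι.range) le_normalizer_of_normal
      (coprime_of_isPGroup (hK.to_le hVM) (odd_iff.1 hB)) (.inr (sol_of_odd hB))
      (le_normalizer_of_normal (mem_top r)) fun c hc => by
        rw [← commutatorElement_inv]
        refine inv_mem (u3 c (zpowers_le.2 ?_ (eB.le (mem_map_of_mem π hc))))
        refine ⟨_, mul_mem u1 u2, ?_⟩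
        simp only [map_mul, map_inv, hy, hg, a0]
    refine ⟨v * r, ⟨mul_mem (hVM hv) hr, e⟩, by rw [map_mul, (f1 v).2 hv, one_mul], ?_⟩
    have := u3 x ⟨_, u1, by rw [map_mul, hy, ex]⟩
    rw [← f1, map_commutatorElement] at this ⊢
    rwa [map_mul, (f1 v).2 hv, one_mul]
  have := Fintype.ofFinite ↥(P ⊓ f g •ᶜ P)
  obtain ⟨a1, a2, a3, e1, e2, e3⟩ := (Fintype.two_lt_card_iff (α := ↥(P ⊓ f g •ᶜ P))).1 (by
    rwa [← Nat.card_eq_fintype_card])
  obtain ⟨r, hr, er, r3⟩ := k _ (a1⁻¹ * a2).2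
  obtain ⟨s, hs, es, s3⟩ := k _ (a2⁻¹ * a3).2
  refine h.not_four hB hK h2 hb eb hx ex hr hs (fun e => e1 (inv_mul_eq_one.1 (Subtype.ext ?_)))
    (fun e => e3 (inv_mul_eq_one.1 (Subtype.ext ?_))) (fun e => e2 (inv_mul_eq_one.1 (Subtype.ext ?_)))
    r3 s3
  · exact er.symm.trans ((f1 _).2 e)
  · exact es.symm.trans ((f1 _).2 e)
  · rw [← f1, map_mul, er, es] at e
    simpa [mul_assoc] using e

theorem not_ext' {A : Type*} [Group A] [Finite A] {ι : A →* X} {π : X →* MulAut A} {n : ℕ}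
    (hn : 2 ≤ n) (hc : Nat.card A = 2 ^ n) : ¬ Ext ι π := fun h => by
  by_cases e : n = 3
  · obtain ⟨ι', π', h'⟩ := h.exists_congr (W := ZMod 2 × ZMod 2 × ZMod 2) (by decide) (by
      rw [hc, e, Nat.card_eq_fintype_card]; rfl)
    exact not_ext3 h'
  · exact not_ext hn e hc h

end Cfsg.Agent.Pyr
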