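import Cfsg.Agent.Lib.OO.BG1

/-!
# Linear algebra for the rank three case
-/

set_option autoImplicit false

namespace Cfsg.Agent.Pyr

open Subgroup Cfsg.Agent.OO Module
open scoped commutatorElement Pointwise IsMulCommutative

theorem fix_of_det {R W : Type*} [CommRing R] [AddCommGroup W] [Module R W] (b : Basis (Fin 3) R W)
    (f : W →ₗ[R] W) (h0 : f (b 0) = b 1) (h1 : f (b 1) = b 2) (h4 : f (f (b 2)) = b 0)
    (hd : LinearMap.det f = 1) {m : W} (hm : f m = m) : ∃ m', m = m' + f (f m') := by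
  have co : ∀ {x y z x' y' z' : R}, x • b 0 + y • b 1 + z • b 2 = x' • b 0 + y' • b 1 + z' • b 2 →
      x = x' ∧ y = y' ∧ z = z' := fun e => by
    have e0 := congrArg (b.repr · 0) e
    have e1 := congrArg (b.repr · 1) e
    have e2 := congrArg (b.repr · 2) e
    simp at e0 e1 e2
    exact ⟨e0, e1, e2⟩
  have h2 := b.sum_repr (f (b 2))
  have h3 := b.sum_repr m
  rw [Fin.sum_univ_three] at h2 h3
  rw [← LinearMap.det_toMatrix b, Matrix.det_fin_three] at hd
  simp [LinearMap.toMatrix_apply, h0, h1] at hd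
  generalize b.repr (f (b 2)) 1 = c1 at *
  generalize b.repr (f (b 2)) 2 = c2 at *
  generalize b.repr m 0 = x at *
  generalize b.repr m 1 = y at *
  generalize b.repr m 2 = z at *
  rw [hd] at h2
  obtain ⟨e1, e2, -⟩ := co (x := c2) (y := 1 + c2 * c1) (z := c1 + c2 * c2) (x' := 1) (y' := 0)
    (z' := 0) (by
      rw [zero_smul, zero_smul, add_zero, add_zero, one_smul]
      refine Eq.trans ?_ h4
      rw [← h2]
      simp only [map_add, map_smul, h0, h1]
      rw [← h2]; module)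
  obtain ⟨e3, e4, -⟩ := co (x := z) (y := x + z * c1) (z := y + z * c2) (x' := x) (y' := y)
    (z' := z) (by
      refine Eq.trans ?_ (hm.trans h3.symm)
      rw [← h3]
      simp only [map_add, map_smul, h0, h1]
      rw [← h2]; module)
  refine ⟨x • b 0, ?_⟩
  rw [map_smul, map_smul, h0, h1, ← h3, e3, show y = 0 by
    rw [e1, one_mul] at e2; linear_combination x * e2 - e4 + c1 * e3, zero_smul, add_zero]

theorem fix_big' {W : Type*} [CommGroup W] [Finite W] (h2 : ∀ x : W, x * x = 1)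
    (hc : Nat.card W = 64) (y : W →* W) (hy : ∀ x, y (y (y (y x))) = x) :
    16 ≤ ♯((y.comp y).eqLocus (MonoidHom.id W)) := by
  have hi : ∀ x : W, x⁻¹ = x := fun x => inv_eq_of_mul_eq_one_right (h2 x)
  let T := y * MonoidHom.id W
  have hT : ∀ x, T (T x) = y (y x) * x := fun x => by
    simp only [T, MonoidHom.mul_apply, MonoidHom.id_apply, map_mul]
    rw [mul_assoc, ← mul_assoc (y x), h2, one_mul]
  have e : (y.comp y).eqLocus (MonoidHom.id W) = (T.comp T).ker := ext fun x => by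
    rw [MonoidHom.mem_ker, MonoidHom.comp_apply, hT, mul_eq_one_iff_eq_inv, hi]; rfl
  have h1 : (T.comp T).range ≤ (T.comp T).ker := by
    rintro _ ⟨x, rfl⟩
    rw [MonoidHom.mem_ker, MonoidHom.comp_apply, MonoidHom.comp_apply, hT, hT, map_mul, map_mul, hy,
      mul_comm x, h2]
  have h3 := (T.comp T).ker.card_mul_index
  rw [index_ker, hc] at h3
  have h4 := card_le h1
  rw [e]
  by_contra! h5
  have h6 : ♯(T.comp T).ker = 8 ∧ ♯(T.comp T).range = 8 := by
    generalize ♯(T.comp T).ker = a at *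
    generalize ♯(T.comp T).range = b at *
    interval_cases a <;> omega
  have h7 : T.ker ≤ (T.comp T).ker := fun x hx => by
    rw [MonoidHom.mem_ker, MonoidHom.comp_apply, hx, map_one]
  have h8 := card_mul_relIndex h7
  rw [relIndex_ker, h6.1, show (T.comp T).ker.map T = T.ker from le_antisymm
    (fun _ ⟨x, hx, e⟩ => e ▸ hx) fun x hx => ?_] at h8
  · generalize ♯T.ker = a at *
    have : a ≤ 3 := by nlinarith
    interval_cases a <;> omega
  · obtain ⟨z, rfl⟩ := (eq_of_le_of_card_le h1 (h6.1.trans h6.2.symm).le).ge (h7 hx)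
    exact ⟨T z, hx, rfl⟩

theorem fix_big {G : Type*} [Group G] [Finite G] {W : Subgroup G} (he : IsElementaryAbelian 2 W)
    (hc : ♯W = 64) {y : G} (hy : y ∈ 𝐍(W)) (h4 : y * y * (y * y) ∈ 𝐂(W)) : 16 ≤ ♯(W ⊓ 𝐂[y * y]) := by
  have := he.1
  refine (fix_big' (W := W) (fun x => Subtype.ext ((pow_two _).symm.trans (he.2 _ x.2))) hc
    (W.normalizerMonoidHom ⟨y, hy⟩).toMonoidHom fun x => Subtype.ext ?_).trans ?_
  · refine Eq.trans ?_ (mem_cent_iff_conj.1 h4 _ x.2)
    change y * (y * (y * (y * x * y⁻¹) * y⁻¹) * y⁻¹) * y⁻¹ = _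
    group
  · rw [← card_map_of_injective W.subtype_injective]
    refine card_le ?_
    rintro _ ⟨x, hx, rfl⟩
    refine ⟨x.2, mem_cent1_comm.1 (mem_cent1_iff_conj.2 (Eq.trans ?_ (congrArg Subtype.val hx)))⟩
    change _ = y * (y * x * y⁻¹) * y⁻¹
    rw [coe_subtype]
    group

/-- the elementary abelian group of order `8` -/
abbrev V3 : Type := Multiplicative (ZMod 2 × ZMod 2 × ZMod 2)

/-- an explicit automorphism -/
def aut (f g : ZMod 2 × ZMod 2 × ZMod 2 → ZMod 2 × ZMod 2 × ZMod 2)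
    (h1 : ∀ x, g (f x) = x := by decide) (h2 : ∀ x, f (g x) = x := by decide)
    (h3 : ∀ x y, f (x + y) = f x + f y := by decide) : MulAut V3 :=
  ⟨⟨f, g, h1, h2⟩, h3⟩

def y0 : MulAut V3 := aut (fun (a, b, c) => (a + b, b + c, c)) fun (a, b, c) => (a + b + c, b + c, c)
def k0 : MulAut V3 := aut (fun (a, b, c) => (c, a, b + c)) fun (a, b, c) => (b, a + c, a)
def s1 : MulAut V3 := aut (fun (a, b, c) => (b, a, c)) fun (a, b, c) => (b, a, c)
def s2 : MulAut V3 := aut (fun (a, b, c) => (a, c, b)) fun (a, b, c) => (a, c, b)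
def s3 : MulAut V3 := aut (fun (a, b, c) => (c, b, a)) fun (a, b, c) => (c, b, a)
def a0 : MulAut V3 := y0 * y0 * (s3 * (y0 * y0) * s3⁻¹)
def e2 : V3 := Multiplicative.ofAdd (0, 1, 0)
def e3 : V3 := Multiplicative.ofAdd (0, 0, 1)

theorem y0_four : y0 * y0 * (y0 * y0) = 1 := MulEquiv.ext (by decide)
theorem y0_sq : y0 * y0 ≠ 1 := fun e => absurd (MulEquiv.ext_iff.1 e) (by decide)
theorem y0_eq : s1 * (y0 * y0) * s1⁻¹ * (s2 * (y0 * y0) * s2⁻¹) = y0 := MulEquiv.ext (by decide)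
theorem a0_cube : a0 ^ 3 = 1 := MulEquiv.ext (by decide)
theorem a0_inv : y0 * y0 * a0 * (y0 * y0)⁻¹ = a0⁻¹ := MulEquiv.ext (by decide)
theorem a0_fix : ∀ v, a0 v = v → v = 1 ∨ v = e2 := by decide
set_option synthInstance.maxSize 10000 in
theorem k0_tr : ∀ v w : V3, v ≠ 1 → w ≠ 1 → ∃ i : Fin 7, (k0 ^ i.val) v = w := by decide
theorem indep : ∀ a b c : Fin 2, e3 ^ a.val * y0 e3 ^ b.val * y0 (y0 e3) ^ c.val = 1 →
    a = 0 ∧ b = 0 ∧ c = 0 := by decide
theorem span3 : ∀ v : V3, ∃ a b c : Fin 2, e3 ^ a.val * y0 e3 ^ b.val * y0 (y0 e3) ^ c.val = v := by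
  decide
set_option synthInstance.maxSize 10000 in
theorem axis : ∀ u v : V3, u ≠ 1 → v ≠ 1 → u ≠ v → ∃ i : Fin 7, ∀ w,
    (k0 ^ i.val * (y0 * y0) * (k0 ^ i.val)⁻¹) w = w ↔ w = 1 ∨ w = u ∨ w = v ∨ w = u * v := by decide

end Cfsg.Agent.Pyr
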