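import Cfsg.Agent.Lib.Pyr.GL3
import Cfsg.Agent.Lib.Pyr.Cent
import Cfsg.Agent.Lib.AF.Mers
import Cfsg.Agent.Lib.Char.Kazarin
import Cfsg.Agent.Lib.ZL.SEB

/-!
# Groups with one class of involutions, of odd prime power size
-/

set_option autoImplicit false

namespace Cfsg.Agent.Pyr

open Subgroup Cfsg.Agent.OO Cfsg.Agent.Coprime Cfsg.Agent.GW
open scoped commutatorElement Pointwise IsMulCommutative

universe u

variable {G : Type u} [Group G] [Finite G]

theorem sol_of_mersenne {V : Subgroup G} [V.Normal] (hsq : ∀ x, x * x = 1 ↔ x ∈ V) {p n : ℕ}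
    (hp : p.Prime) (hn : 2 ≤ n) (hc : ♯V = 2 ^ n) (hc' : ♯V = p + 1)
    (tr : ∀ v ∈ V, v ≠ 1 → ∀ w ∈ V, w ≠ 1 → ∃ g, g * v * g⁻¹ = w) : Group.IsSolvable G := by
  have := Fact.mk hp
  have := ab_of_sq fun x => (hsq x).2
  let π : G →* MulAut V := MulAut.conjNormal
  let : DistribMulAction G (Additive V) :=
    { smul := fun g v => .ofMul (π g v.toMul)
      one_smul := fun v => by change Additive.ofMul (π 1 _) = _; rw [map_one]; rfl
      mul_smul := fun g h v => by change Additive.ofMul (π (g * h) _) = _; rw [map_mul]; rfl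
      smul_zero := fun g => map_one (π g)
      smul_add := fun g => map_mul (π g) }
  have h2 : ∀ v : Additive V, v + v = 0 := fun v => Subtype.ext ((hsq _).2 v.toMul.2)
  have tr' : ∀ v w : Additive V, v ≠ 0 → w ≠ 0 → ∃ g : G, g • v = w := fun v w v1 w1 =>
    (tr _ v.toMul.2 (fun e => v1 (Subtype.ext e)) _ w.toMul.2 fun e => w1 (Subtype.ext e)).imp
      fun g e => Subtype.ext e
  have h0 : ¬ ∀ φ : Additive V →+ Additive V, Function.Injective φ → ∃ g : G, ∀ v, g • v = φ v :=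
    fun h => not_ext' (ι := V.subtype) (π := π) hn hc ⟨V.subtype_injective, fun _ _ => rfl, fun φ =>
      (h (MulEquiv.toAdditive φ).toAddMonoidHom φ.injective).imp fun g e => MulEquiv.ext e,
      fun x => by rw [hsq, range_subtype]⟩
  obtain ⟨t, e, -, hr, ht, -⟩ := (AF.mers_dich h2 hc' tr').resolve_left h0
  have h3 := (AF.mers_inv h2 hc' tr').resolve_left h0
  have h4 : Sol 𝐂(V) := sol_cent (k := t) hsq hn hc fun v hv v1 w hw w1 => by
    obtain ⟨i, hi⟩ := (Set.ext_iff.1 hr (.ofMul ⟨v, hv⟩)).2 fun e => v1 (congrArg Subtype.val e)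
    obtain ⟨j, hj⟩ := (Set.ext_iff.1 hr (.ofMul ⟨w, hw⟩)).2 fun e => w1 (congrArg Subtype.val e)
    have pw : ∀ m : ℕ, t ^ m • e i = e (i + m) := fun m => by
      induction m with
      | zero => simp
      | succ m ih => rw [pow_succ', mul_smul, ih, ht, Nat.cast_succ, add_assoc]
    have := pw (j - i).val
    rw [ZMod.natCast_zmod_val, add_sub_cancel, hi, hj] at this
    exact ⟨_, congrArg Subtype.val this⟩
  have : Finite (MulAut V) := Finite.of_injective _ DFunLike.coe_injective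
  have h5 : Sol π.range := sol_of_odd (odd_of_forall fun _ ⟨g, e⟩ e' => e ▸ MulEquiv.ext
    (h3 g (MulEquiv.ext_iff.1 (e ▸ e' : π g * π g = 1))))
  refine Group.isSolvable_of_ker_le_range (𝐂(V)).subtype π.rangeRestrict fun g hg => ⟨⟨g,
    mem_cent_iff_conj.2 fun x hx => ?_⟩, rfl⟩
  exact congrArg Subtype.val (MulEquiv.ext_iff.1 (congrArg Subtype.val hg) ⟨x, hx⟩)

theorem pyramidal {p k : ℕ} (hp : p.Prime) (hp2 : p ≠ 2) (h : Odd k ∨ p ^ k = 9)
    (hc : Nat.card {x : G // orderOf x = 2} = p ^ k)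
    (hconj : ∀ x y : G, orderOf x = 2 → orderOf y = 2 → ∃ g : G, g * x * g⁻¹ = y) :
    Group.IsSolvable G := by
  obtain ⟨t, ht⟩ := (Nat.card_ne_zero.1 (hc ▸ pow_ne_zero k hp.ne_zero)).1
  have := normalIn_top.1 (Opi_normal ({2} : Set ℕ)ᶜ (⊤ : Subgroup G))
  let f := QuotientGroup.mk' (O (⊤ : Subgroup G))
  have hf := QuotientGroup.mk'_surjective (O (⊤ : Subgroup G))
  have hk : Odd ♯f.ker := by rw [QuotientGroup.ker_mk']; exact odd_O ⊤
  have im : ∀ s, orderOf s = 2 → orderOf (f s) = 2 := fun s hs => orderOf_eq_two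
    (by rw [← map_mul, SE.sq_of_two hs, map_one]) (SE.map_ne_one hk (SE.ne_one_of_two hs) (SE.sq_of_two hs))
  have hconj' : ∀ x y, orderOf x = 2 → orderOf y = 2 → ∃ g : G ⧸ O ⊤, g * x * g⁻¹ = y := by
    intro x y hx hy
    obtain ⟨x, rfl, x2⟩ := SE.lift_inv hf hk (SE.sq_of_two hx)
    obtain ⟨y, rfl, y2⟩ := SE.lift_inv hf hk (SE.sq_of_two hy)
    obtain ⟨g, rfl⟩ := hconj x y (orderOf_eq_two x2 fun e => SE.ne_one_of_two hx (e ▸ map_one _))
      (orderOf_eq_two y2 fun e => SE.ne_one_of_two hy (e ▸ map_one _))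
    exact ⟨f g, by simp [f]⟩
  obtain ⟨j, -, hj⟩ := (Nat.dvd_prime_pow hp).1 (show 𝐂[f t].index ∣ p ^ k by
    rw [← hc, card_inv ht hconj]
    refine (index_dvd_of_le ?_).trans (index_map_dvd _ hf)
    rintro _ ⟨g, hg, rfl⟩
    exact mem_cent1.2 (by rw [← map_mul, mem_cent1.1 hg, map_mul]))
  obtain ⟨V, -, hV, V0, r, hr, he⟩ := exists_norm_abelem (M := ⊤) Core.isSolvable_solvableRadical
    (fun e => SE.ne_one_of_two (im t ht) (mem_bot.1 (e ▸ Char.kazarin hp hj))) le_normalizer_of_normal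
  have hVn := normalizer_eq_top_iff.1 (eq_top_iff.2 hV)
  have := Fact.mk hr
  obtain rfl : r = 2 := by_contra fun e => V0 (by
    have h1 := card_mul_relIndex (ker_le_comap f V)
    rw [relIndex_ker, map_comap_eq_self_of_surjective hf] at h1
    rw [← map_comap_eq_self_of_surjective hf V, Subgroup.map_eq_bot_iff, QuotientGroup.ker_mk']
    exact le_O (normalIn_top.2 inferInstance) (h1 ▸ hk.mul (odd_of_isPGroup e (abelem_isPGroup he))))
  obtain ⟨v, hv, v1⟩ := exists_mem_ne_one V0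
  have o2 : ∀ x ∈ V, x ≠ 1 → orderOf x = 2 := fun x hx => orderOf_eq_prime (he.2 x hx)
  have hsq : ∀ x, x * x = 1 ↔ x ∈ V := fun x => ⟨fun e => by
    by_cases x1 : x = 1
    · exact x1 ▸ one_mem V
    · obtain ⟨g, rfl⟩ := hconj' v x (o2 v hv v1) (orderOf_eq_two e x1)
      exact hVn.conj_mem v hv g, fun hx => pow_two x ▸ he.2 x hx⟩
  have hcV : ♯V = p ^ j + 1 := by
    rw [← hj, ← card_inv (im t ht) hconj', ← Nat.sub_add_cancel (card_pos' V), ← ncard_sharp,
      ← Nat.card_coe_set_eq]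
    exact congrArg (· + 1) (Nat.card_congr (Equiv.subtypeEquivRight fun x => mem_sharp.trans
      ⟨fun h => o2 x h.1 h.2, fun h => ⟨(hsq x).1 (SE.sq_of_two h), SE.ne_one_of_two h⟩⟩))
  obtain ⟨n, hn⟩ := (abelem_isPGroup he).exists_card_eq
  by_cases j0 : j = 0
  · have hu : ∀ s t : G, orderOf s = 2 → orderOf t = 2 → s * t ∈ O ⊤ := fun s s' hs hs' => by
      have h1 : ∀ x, orderOf x = 2 → x = v := fun x hx => ((mem_zp ((hsq v).2 hv)).1
        ((eq_zpowers_of_prime (by rw [hcV, j0]; exact Nat.prime_two) hv v1).ge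
          ((hsq x).1 (SE.sq_of_two hx)))).resolve_left (SE.ne_one_of_two hx)
      rw [← QuotientGroup.eq_one_iff]
      change f (s * s') = 1
      rw [map_mul, h1 _ (im s hs), h1 _ (im s' hs'), (hsq v).2 hv]
    rcases h with h | h
    · refine (sol_or_square hconj hu).resolve_right fun ⟨a, ha⟩ => ?_
      have := congrArg (Nat.factorization · p) (hc.symm.trans ha)
      have a0 : a ≠ 0 := fun e => pow_ne_zero k hp.ne_zero (by rw [← hc, ha, e, mul_zero])
      simp only [Nat.factorization_mul a0 a0, hp.factorization_pow, Finsupp.single_eq_same,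
        Finsupp.add_apply] at this
      have := Nat.odd_iff.1 h
      omega
    · refine sol_nine (hc.trans h) fun s s' hs hs' e => ?_
      have h1 := eq_one_of_odd_of_sq (odd_of_mem (odd_O ⊤) (hu s s' hs hs')) (by
        rw [mul_assoc, ← mul_assoc s', ← mul_inv_eq_iff_eq_mul.1 e, mul_assoc s, SE.sq_of_two hs',
          mul_one, SE.sq_of_two hs])
      exact (eq_inv_of_mul_eq_one_left h1).trans (inv_eq (SE.sq_of_two hs'))
  · obtain rfl := ZL.eq_one_of_pow_add_one (fun e => hp2 ((Nat.prime_dvd_prime_iff_eq Nat.prime_two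
      hp).1 e).symm) hp.one_lt (hcV.symm.trans hn) j0
    rw [pow_one] at hcV
    have := sol_of_mersenne hsq hp (n := n) (by
      by_contra! h
      have := hp.two_le
      interval_cases n <;> omega) hn hcV fun v hv v1 w hw w1 => hconj' v w (o2 v hv v1) (o2 w hw w1)
    have := sol_of_odd hk
    exact Group.isSolvable_of_ker_le_range f.ker.subtype f (by simp)

end Cfsg.Agent.Pyr
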