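import Cfsg.Agent.Lib.W3.Setup
import Cfsg.Agent.Lib.SE.Basic

/-!
# Elementary abelian Sylow 2-subgroups with a semiregular automizer
-/

set_option autoImplicit false

namespace Cfsg.Agent.Pyr

open Subgroup Cfsg.Agent.OO Cfsg.Agent.Coprime Cfsg.Agent.Sig Cfsg.Agent.GW Cfsg.Agent.W3
open scoped commutatorElement Pointwise

universe u

variable {G : Type u} [Group G] [Finite G] {A H S : Subgroup G} {a b : G}

theorem sol_norm (hS : Syl 2 S H) : Sol (H ⊓ 𝐍(S)) := by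
  obtain ⟨K, h1, h2⟩ := hS.syl_norm.hall.exists_sdprod inf_le_right
  exact h1.sol hS.sol (sol_of_odd (odd_iff.2 h2.piGrp))

theorem sol_of_burnside (hS : Syl 2 S H) (h : H ⊓ 𝐍(S) ≤ 𝐂(S)) : Sol H :=
  (Burnside_normal_complement hS h).sol (sol_of_odd (odd_O H)) hS.sol

theorem sol_of_sr (hA : Syl 2 A H) (he : IsElementaryAbelian 2 A) (h8 : 2 ^ 3 ≤ ♯A)
    (sr : ∀ a ∈ A, a ≠ 1 → H ⊓ 𝐍(A) ⊓ 𝐂[a] ≤ 𝐂(A)) (ha : a ∈ A) (a1 : a ≠ 1) (hb : b ∈ A)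
    (b1 : b ≠ 1) (hc : ∀ g ∈ H, g * a * g⁻¹ ≠ b) : Sol H := by
  have h2 : ∀ a ∈ A, A ≤ H ⊓ 𝐂[a] := fun a ha =>
    le_inf hA.le ((abelem_le_cent he).trans (cent_le_cent1 ha))
  have h0 : ∀ a ∈ A, a ≠ 1 → IsSdprod (O (H ⊓ 𝐂[a])) A (H ⊓ 𝐂[a]) := fun a ha a1 =>
    Burnside_normal_complement (hA.mono (h2 a ha) inf_le_left)
      (inf_right_comm H _ _ ▸ sr a ha a1)
  obtain ⟨E, hE, h3⟩ := complete_two (A := A) (θ := fun a => O (H ⊓ 𝐂[a])) ⟨Nat.prime_two, he,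
    h8, fun _ _ _ => (Opi_le _ _).trans inf_le_right, fun _ _ _ => not_dvd_Op' _,
    fun a ha _ => (h2 a ha).trans (O_norm _), fun _ _ _ => sol_of_odd (odd_O _),
    fun a ha _ b hb b1 => ((h0 b hb b1).hall_left (Op'_piGrp _ _)
      (piGrp_singleton hA.isPGroup).compl_compl).le_of_normal_hall (O_norm _)
      (inf_le_inf_right _ ((Opi_le _ _).trans inf_le_left)) ((Op'_piGrp _ _).inf_left _)⟩
  have nc : ¬ IsCyclic A := fun h => by
    obtain ⟨x, rfl⟩ := exists_zpowers_eq h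
    have := Nat.le_of_dvd two_pos (orderOf_dvd_of_pow_eq_one (he.2 x (mem_zpowers x)))
    rw [Nat.card_zpowers] at h8
    omega
  have gen : ∀ K, (∀ a ∈ A, a ≠ 1 → O (H ⊓ 𝐂[a]) ≤ K) → E ≤ K := fun K h =>
    coprime_abelian_gen_cent1 he.1 nc hE.norm
      (coprime_of_isPGroup hA.isPGroup ((piGrp_compl_singleton Nat.prime_two).2 hE.cop)).symm
      fun a ha a1 => (hE.le a ha a1).trans (h a ha a1)
  have h4 : H ⊓ 𝐍(A) ≤ 𝐍(E) := fun g hg => mem_norm_of_conj_le (conj_le_iff_le_inv_conj.2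
    (gen _ fun a ha a1 => conj_le_iff_le_inv_conj.1 (by
      rw [← O_conj, conj_inf, ← cent1_conj, conj_eq_of_mem hg.1]
      exact h3 _ (conj_mem_of_norm hg.2 ha) (conj_ne_one.2 a1))))
  set M := H ⊓ 𝐍(A) ⊔ E
  have hM : M ≤ H := sup_le inf_le_left (gen H fun _ _ _ => (Opi_le _ _).trans inf_le_left)
  have hAM : A ≤ M := le_sup_of_le_left (le_inf hA.le (le_norm_self A))
  refine sol_of_le (sol_sup h4 (sol_norm hA) hE.sol) (by_contra fun hH => ?_)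
  have sq : ∀ x ∈ A, x * x = 1 := fun x hx => pow_two x ▸ he.2 x hx
  have k : ∀ t ∈ M, t * t = 1 → ∃ m ∈ M, m * t * m⁻¹ ∈ A := fun t ht t2 =>
    ((hA.mono hAM hM).exists_conj_le (zpowers_le.2 ht) (SE.isPGroup_zp t2)).imp fun m hm =>
      ⟨hm.1, hm.2 (conj_mem_conj (mem_zpowers t))⟩
  have se : ZL.SE (M.subgroupOf H) := by
    refine SE.se_of_mem (fun e => hH (subgroupOf_eq_top.1 e)) (SE.two_dvd (t := ⟨a, hA.le ha⟩)
      (hAM ha) (fun e => a1 (congrArg Subtype.val e)) (Subtype.ext (sq a ha))) ?_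
    rintro ⟨t, tH⟩ ht t1 t2 ⟨g, gH⟩ hg
    have t2' : t * t = 1 := congrArg Subtype.val t2
    obtain ⟨m, hm, h5⟩ := k t ht t2'
    obtain ⟨m', hm', h6⟩ := k (g * t * g⁻¹) hg (by rw [conj_mul, t2', mul_one, mul_inv_cancel])
    have h7 : m' * g * m⁻¹ ∈ H := mul_mem (mul_mem (hM hm') gH) (inv_mem (hM hm))
    obtain ⟨n, hn, e⟩ := fusion hA he.1 h5 h7 (by convert h6 using 1; group)
    have h8 : n⁻¹ * (m' * g * m⁻¹) ∈ M := by
      have x1 : m * t * m⁻¹ ≠ 1 := conj_ne_one.2 fun e => t1 (Subtype.ext e)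
      refine sup_le ((h3 _ h5 x1).trans le_sup_right) hAM ((h0 _ h5 x1).sup_eq.ge
        ⟨H.mul_mem (H.inv_mem hn.1) h7, mem_cent1_iff_conj.2 ?_⟩)
      calc _ = n⁻¹ * (m' * g * m⁻¹ * (m * t * m⁻¹) * (m' * g * m⁻¹)⁻¹) * n := by group
        _ = _ := by rw [← e]; group
    have h9 := mul_mem (mul_mem (inv_mem hm') (mul_mem (mem_sup_left hn) h8)) hm
    rwa [show m'⁻¹ * (n * (n⁻¹ * (m' * g * m⁻¹))) * m = g by group] at h9
  obtain ⟨g, e⟩ := SE.se_class se (s := ⟨a, hA.le ha⟩) (t := ⟨b, hA.le hb⟩)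
    (fun e => a1 (congrArg Subtype.val e)) (Subtype.ext (sq a ha))
    (fun e => b1 (congrArg Subtype.val e)) (Subtype.ext (sq b hb))
  exact hc g g.2 (congrArg Subtype.val e)

end Cfsg.Agent.Pyr
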